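import Cfsg.Agent.Spectrum.Orders

/-!
Element orders of small powers of a group times a group of prime exponent.
-/

set_option autoImplicit false

namespace Cfsg.Agent.Spectrum

variable {G C : Type*} [Group G] [Finite G] [Group C]

theorem exists_gcd_orders {P Q : ℕ} {u c : G} (hu : P ∣ orderOf u) (hc : Q ∣ orderOf c) (L : ℕ) :
    (∃ x : G, orderOf x = Nat.gcd L P) ∧ ∃ y : G, orderOf y = Nat.gcd L Q :=
  ⟨exists_orderOf_eq_of_dvd (orderOf_pos u).ne' ((Nat.gcd_dvd_right L P).trans hu),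
    exists_orderOf_eq_of_dvd (orderOf_pos c).ne' ((Nat.gcd_dvd_right L Q).trans hc)⟩

theorem orderOf_prime_exponent {r : ℕ} (hr : r.Prime) (hC : ∀ d : C, d ^ r = 1) (d : C) :
    orderOf d = 1 ∨ orderOf d = r :=
  hr.eq_one_or_self_of_dvd _ (orderOf_dvd_of_pow_eq_one (hC d))

/-- Three factors: `ω(G³ × C) = ω(G³)`. -/
theorem range_orderOf_triple {r P Q : ℕ} (hr : r.Prime) (hC : ∀ d : C, d ^ r = 1) (hPQ : Nat.Coprime P Q)
    {u c w : G} (hu : P ∣ orderOf u) (hc : Q ∣ orderOf c) (hw : orderOf w = r)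
    (h : ∀ g : G, (∃ x : G, orderOf x = Nat.lcm (orderOf g) r) ∨ orderOf g ∣ P * Q) :
    Set.range (orderOf : G × G × G × C → ℕ) = Set.range (orderOf : G × G × G → ℕ) := by
  apply le_antisymm
  · rintro L ⟨⟨a, b, e, d⟩, rfl⟩
    rcases orderOf_prime_exponent hr hC d with hd | hd
    · exact ⟨(a, b, e), by simp [Prod.orderOf, hd]⟩
    simp only [Prod.orderOf, hd]
    rcases h a with ⟨x, hx⟩ | ha
    · exact ⟨(x, b, e), by simp only [Prod.orderOf, hx]; ac_rfl⟩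
    rcases h b with ⟨x, hx⟩ | hb
    · exact ⟨(a, x, e), by simp only [Prod.orderOf, hx]; ac_rfl⟩
    rcases h e with ⟨x, hx⟩ | he
    · exact ⟨(a, b, x), by simp only [Prod.orderOf, hx]⟩
    set L := Nat.lcm (orderOf a) (Nat.lcm (orderOf b) (orderOf e)) with hL
    have hLd : L ∣ P * Q := Nat.lcm_dvd ha (Nat.lcm_dvd hb he)
    obtain ⟨⟨x, hx⟩, ⟨y, hy⟩⟩ := exists_gcd_orders hu hc L
    refine ⟨(x, y, w), ?_⟩
    simp only [Prod.orderOf, hx, hy, hw]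
    rw [← Nat.lcm_assoc, Nat.Coprime.lcm_eq_mul ((hPQ.coprime_dvd_left (Nat.gcd_dvd_right L P)).coprime_dvd_right
      (Nat.gcd_dvd_right L Q)), ← Nat.Coprime.gcd_mul L hPQ, Nat.gcd_eq_left hLd, hL]
    ac_rfl
  · rintro L ⟨⟨a, b, e⟩, rfl⟩
    exact ⟨(a, b, e, 1), by simp [Prod.orderOf]⟩

/-- Two factors: `ω(G² × C) = ω(G²)`. -/
theorem range_orderOf_pair {r P Q : ℕ} (hr : r.Prime) (hC : ∀ d : C, d ^ r = 1) (hPQ : Nat.Coprime P Q)
    {u c : G} (hu : Nat.lcm P r ∣ orderOf u) (hc : Q ∣ orderOf c)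
    (h : ∀ g : G, (∃ x : G, orderOf x = Nat.lcm (orderOf g) r) ∨ orderOf g ∣ P * Q) :
    Set.range (orderOf : G × G × C → ℕ) = Set.range (orderOf : G × G → ℕ) := by
  apply le_antisymm
  · rintro L ⟨⟨a, b, d⟩, rfl⟩
    rcases orderOf_prime_exponent hr hC d with hd | hd
    · exact ⟨(a, b), by simp [Prod.orderOf, hd]⟩
    simp only [Prod.orderOf, hd]
    rcases h a with ⟨x, hx⟩ | ha
    · exact ⟨(x, b), by simp only [Prod.orderOf, hx]; ac_rfl⟩
    rcases h b with ⟨x, hx⟩ | hb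
    · exact ⟨(a, x), by simp only [Prod.orderOf, hx]⟩
    set L := Nat.lcm (orderOf a) (orderOf b) with hL
    have hLd : L ∣ P * Q := Nat.lcm_dvd ha hb
    obtain ⟨-, ⟨y, hy⟩⟩ := exists_gcd_orders ((Nat.dvd_lcm_left P r).trans hu) hc L
    obtain ⟨x, hx⟩ := exists_orderOf_eq_of_dvd (orderOf_pos u).ne'
      ((Nat.lcm_dvd ((Nat.gcd_dvd_right L P).trans (Nat.dvd_lcm_left P r)) (Nat.dvd_lcm_right P r)).trans hu)
    refine ⟨(x, y), ?_⟩
    simp only [Prod.orderOf, hx, hy]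
    rw [Nat.lcm_assoc, Nat.lcm_comm r, ← Nat.lcm_assoc, Nat.Coprime.lcm_eq_mul
      ((hPQ.coprime_dvd_left (Nat.gcd_dvd_right L P)).coprime_dvd_right (Nat.gcd_dvd_right L Q)),
      ← Nat.Coprime.gcd_mul L hPQ, Nat.gcd_eq_left hLd, hL]
    ac_rfl
  · rintro L ⟨⟨a, b⟩, rfl⟩
    exact ⟨(a, b, 1), by simp [Prod.orderOf]⟩

end Cfsg.Agent.Spectrum
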