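import Cfsg.Agent.Spectrum.SpElements
import Cfsg.Agent.Spectrum.Products

/-!
The facts about element orders of `PSp_{2n}(q)`, `q` odd, behind `ω(PSp³) = ω(PSp³ × Z_2^m)`.
-/

set_option autoImplicit false

namespace Cfsg.Agent.Spectrum

open Polynomial Cfsg.Agent.Classical

variable {F : Type*} [Field F] {n : ℕ}

/-- The adjoint for the standard alternating form. -/
def adj (X : Matrix (Fin n ⊕ Fin n) (Fin n ⊕ Fin n) F) : Matrix (Fin n ⊕ Fin n) (Fin n ⊕ Fin n) F :=
  -(Matrix.J (Fin n) F * X.transpose * Matrix.J (Fin n) F)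

theorem adj_mul (X Y : Matrix (Fin n ⊕ Fin n) (Fin n ⊕ Fin n) F) : adj (X * Y) = adj Y * adj X := by
  rw [adj, adj, adj, Matrix.transpose_mul, neg_mul_neg]
  simp only [mul_assoc]
  rw [← mul_assoc (Matrix.J (Fin n) F) (Matrix.J (Fin n) F), Matrix.J_squared]
  simp

theorem adj_add (X Y : Matrix (Fin n ⊕ Fin n) (Fin n ⊕ Fin n) F) : adj (X + Y) = adj X + adj Y := by
  simp [adj, Matrix.transpose_add, mul_add, add_mul, neg_add_rev, add_comm]

theorem adj_smul (c : F) (X : Matrix (Fin n ⊕ Fin n) (Fin n ⊕ Fin n) F) : adj (c • X) = c • adj X := by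
  simp [adj, Matrix.transpose_smul]

theorem adj_one : adj (1 : Matrix (Fin n ⊕ Fin n) (Fin n ⊕ Fin n) F) = 1 := by
  rw [adj, Matrix.transpose_one, mul_one, Matrix.J_squared, neg_neg]

theorem adj_adj (X : Matrix (Fin n ⊕ Fin n) (Fin n ⊕ Fin n) F) : adj (adj X) = X := by
  simp only [adj, Matrix.transpose_neg, Matrix.transpose_mul, Matrix.transpose_transpose, Matrix.J_transpose,
    neg_mul, mul_neg, neg_neg]
  rw [show Matrix.J (Fin n) F * (Matrix.J (Fin n) F * (X * Matrix.J (Fin n) F)) * Matrix.J (Fin n) F =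
    (Matrix.J (Fin n) F * Matrix.J (Fin n) F) * X * (Matrix.J (Fin n) F * Matrix.J (Fin n) F) by
      simp only [mul_assoc], Matrix.J_squared]
  simp

theorem adj_zero : adj (0 : Matrix (Fin n ⊕ Fin n) (Fin n ⊕ Fin n) F) = 0 := by simp [adj]

theorem adj_sub (X Y : Matrix (Fin n ⊕ Fin n) (Fin n ⊕ Fin n) F) : adj (X - Y) = adj X - adj Y := by
  rw [eq_sub_iff_add_eq, ← adj_add, sub_add_cancel]

theorem mem_symplectic_of_adj {X : Matrix (Fin n ⊕ Fin n) (Fin n ⊕ Fin n) F} (h : adj X * X = 1) :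
    X ∈ Matrix.symplecticGroup (Fin n) F := by
  rw [SymplecticGroup.mem_iff']
  have := congrArg (Matrix.J (Fin n) F * ·) h
  simp only [adj, neg_mul, mul_neg, mul_one, ← mul_assoc, Matrix.J_squared, one_mul, neg_neg] at this
  exact this

/-- Inverse of a symplectic matrix as an adjoint. -/
theorem adj_coe (A : Matrix.symplecticGroup (Fin n) F) : adj A.1 = (A⁻¹).1 := by
  rw [SymplecticGroup.coe_inv, adj, neg_mul, neg_mul]

theorem adj_aeval (A : Matrix.symplecticGroup (Fin n) F) (P : F[X]) : adj (aeval A.1 P) = aeval (A⁻¹).1 P := by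
  induction P using Polynomial.induction_on' with
  | add P Q hP hQ => rw [map_add, map_add, adj_add, hP, hQ]
  | monomial i c =>
    rw [aeval_monomial, aeval_monomial, Algebra.algebraMap_eq_smul_one, smul_mul_assoc, one_mul, smul_mul_assoc,
      one_mul, adj_smul]
    congr 1
    induction i with
    | zero => rw [pow_zero, pow_zero, adj_one]
    | succ i ih => rw [pow_succ, adj_mul, ih, adj_coe, pow_succ']

theorem aeval_reverse_mul (A : Matrix.symplecticGroup (Fin n) F) (P : F[X]) :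
    aeval A.1 P.reverse = A.1 ^ P.natDegree * aeval (A⁻¹).1 P := by
  suffices key : ∀ (Q : F[X]) (d : ℕ), Q.natDegree ≤ d → aeval A.1 (Q.reflect d) = A.1 ^ d * aeval (A⁻¹).1 Q from
    key P _ le_rfl
  intro Q d hQ
  rw [Polynomial.as_sum_range' Q (d + 1) (by omega), map_sum, Finset.mul_sum]
  rw [show (∑ i ∈ Finset.range (d + 1), (monomial i) (Q.coeff i)).reflect d =
    ∑ i ∈ Finset.range (d + 1), ((monomial i) (Q.coeff i)).reflect d from
    map_sum ({ toFun := Polynomial.reflect d, map_zero' := Polynomial.reflect_zero,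
               map_add' := fun a b => Polynomial.reflect_add a b d } : F[X] →+ F[X]) (fun i => monomial i (Q.coeff i))
      (Finset.range (d + 1)), map_sum]
  refine Finset.sum_congr rfl fun i hi => ?_
  rw [Finset.mem_range] at hi
  rw [← C_mul_X_pow_eq_monomial, Polynomial.reflect_C_mul_X_pow, Polynomial.revAt_le (by omega)]
  simp only [map_mul, map_pow, aeval_C, aeval_X]
  have e : A.1 ^ d * (A⁻¹).1 ^ i = A.1 ^ (d - i) := by
    rw [← SubmonoidClass.coe_pow, ← SubmonoidClass.coe_pow, ← Submonoid.coe_mul, inv_pow,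
      ← SubmonoidClass.coe_pow, ← pow_sub A (by omega : i ≤ d)]
  rw [← e, ← mul_assoc, ← mul_assoc, Algebra.commutes]

/-- Reversal of a polynomial killing the inverse. -/
theorem aeval_reverse_eq_zero (A : Matrix.symplecticGroup (Fin n) F) {P : F[X]} (h : aeval (A⁻¹).1 P = 0) :
    aeval A.1 P.reverse = 0 := by
  rw [aeval_reverse_mul, h, mul_zero]

variable [Fintype F]

theorem center_iff (hn : 1 ≤ n) (A : Matrix.symplecticGroup (Fin n) F) :
    A ∈ Subgroup.center (Matrix.symplecticGroup (Fin n) F) ↔ ∃ c : F, c * c = 1 ∧ A.1 = c • 1 := by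
  haveI := nontrivial_symp (F := F) hn
  constructor
  · intro hA
    have h : spEquiv n F A ∈ Subgroup.center (Alt.isoGroup (sympB n F)) := Subgroup.mem_center_iff.2 fun g => by
      obtain ⟨B, rfl⟩ := (spEquiv n F).surjective g
      rw [← map_mul, ← map_mul, Subgroup.mem_center_iff.1 hA B]
    obtain ⟨c, hc, hx⟩ := (mem_center_iso_iff sympB_isAlt sympB_nondeg).1 h
    exact ⟨c, hc, Matrix.ext_of_mulVec_single fun i => by
      rw [Matrix.smul_mulVec, Matrix.one_mulVec, ← hx]; rfl⟩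
  · rintro ⟨c, -, hA⟩
    refine Subgroup.mem_center_iff.2 fun B => Subtype.ext ?_
    rw [Submonoid.coe_mul, Submonoid.coe_mul, hA, mul_smul_comm, mul_one, smul_mul_assoc, one_mul]

/-- A polynomial congruence bounding an order in `PSp`. -/
theorem orderOf_dvd_of_nilp (hn : 1 ≤ n) (p : ℕ) [Fact p.Prime] [CharP F p] (h2 : (2 : F) ≠ 0)
    (A : Matrix.symplecticGroup (Fin n) F) {h a e : ℕ} {c : F} (hc : c * c = 1) (hA : (A.1 ^ h - c • 1) ^ a = 0)
    (he : a ≤ p ^ e) :
    orderOf (QuotientGroup.mk' (Subgroup.center (Matrix.symplecticGroup (Fin n) F)) A) ∣ h * p ^ e := by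
  haveI : Nonempty (Fin n ⊕ Fin n) := ⟨Sum.inl ⟨0, hn⟩⟩
  haveI : CharP (Matrix (Fin n ⊕ Fin n) (Fin n ⊕ Fin n) F) p := inferInstance
  have h1 : (A.1 ^ h - c • 1) ^ p ^ e = 0 := pow_eq_zero_of_le he hA
  rw [sub_pow_char_pow_of_commute _ _ ((Commute.one_right _).smul_right c), _root_.smul_pow, one_pow, ← pow_mul,
    sub_eq_zero] at h1
  have hcp : c ^ p ^ e = c := by
    rcases mul_self_eq_one_iff.1 hc with rfl | rfl
    · exact one_pow _
    · exact ((((Fact.out : p.Prime).odd_of_ne_two fun hp => h2 (by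
        subst hp; exact CharTwo.two_eq_zero)).pow).neg_one_pow)
  rw [hcp] at h1
  rw [orderOf_dvd_iff_pow_eq_one, ← map_pow, ← MonoidHom.mem_ker, QuotientGroup.ker_mk', center_iff hn]
  exact ⟨c, hc, by rw [SubmonoidClass.coe_pow, h1]⟩

/-- A self-reciprocal irreducible polynomial. -/
theorem selfrecip_cases {f : F[X]} (hfm : f.Monic) (hf : Irreducible f) (hX : ¬ f ∣ X) (hr : f ∣ f.reverse) :
    (f.natDegree = 1 ∧ ∃ c : F, c * c = 1 ∧ f ∣ X - C c) ∨
      ∃ l, 1 ≤ l ∧ f.natDegree = 2 * l ∧ f ∣ X ^ (Fintype.card F ^ l + 1) - 1 := by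
  haveI := Fact.mk hf
  haveI : Module.Finite F (AdjoinRoot f) := (AdjoinRoot.powerBasis hf.ne_zero).finite
  haveI : Finite (AdjoinRoot f) := Module.finite_of_finite F
  set z := AdjoinRoot.root f with hz
  have hzf : aeval z f = 0 := by rw [AdjoinRoot.aeval_eq, AdjoinRoot.mk_self]
  have hz0 : z ≠ 0 := fun h => hX (by
    rw [← AdjoinRoot.mk_eq_zero, ← AdjoinRoot.aeval_eq, aeval_X, ← hz, h])
  have hdvd : ∀ P : F[X], aeval z P = 0 → f ∣ P := fun P hP => by
    rwa [← AdjoinRoot.mk_eq_zero, ← AdjoinRoot.aeval_eq]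
  have hinv : aeval z⁻¹ f = 0 := by
    have h1 : aeval z f.reverse = 0 := by
      obtain ⟨q, hq⟩ := hr
      rw [hq, map_mul, hzf, zero_mul]
    letI : Invertible z⁻¹ := invertibleOfNonzero (inv_ne_zero hz0)
    have h := (Polynomial.eval₂_reverse_eq_zero_iff (algebraMap F (AdjoinRoot f)) z⁻¹ f).1
    rw [invOf_eq_inv, inv_inv] at h
    exact h h1
  let pb := AdjoinRoot.powerBasis hf.ne_zero
  have hgen : pb.gen = z := AdjoinRoot.powerBasis_gen hf.ne_zero
  have hk : Module.finrank F (AdjoinRoot f) = f.natDegree := by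
    rw [pb.finrank, AdjoinRoot.powerBasis_dim]
  let τ : AdjoinRoot f →ₐ[F] AdjoinRoot f := pb.lift z⁻¹ (by
    rw [AdjoinRoot.minpoly_powerBasis_gen_of_monic hfm]; exact hinv)
  have hτz : τ z = z⁻¹ := by
    have h : τ pb.gen = z⁻¹ := pb.lift_gen z⁻¹ _
    rwa [hgen] at h
  have hττ : τ ^ 2 = 1 := pb.algHom_ext (by
    rw [hgen, pow_two, AlgHom.mul_apply, hτz, map_inv₀, hτz, inv_inv]; rfl)
  obtain ⟨⟨i, hi⟩, hi' : FiniteField.frobeniusAlgHom F (AdjoinRoot f) ^ i = τ⟩ :=
    (FiniteField.bijective_frobeniusAlgHom_pow F (AdjoinRoot f)).2 τ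
  have hpow : z ^ (Fintype.card F ^ i) = z⁻¹ := by
    rw [← hτz, ← hi', AlgHom.coe_pow, FiniteField.coe_frobeniusAlgHom, pow_iterate]
  have h2i : Module.finrank F (AdjoinRoot f) ∣ 2 * i := by
    rw [← FiniteField.orderOf_frobeniusAlgHom, orderOf_dvd_iff_pow_eq_one, mul_comm, pow_mul, hi', hττ]
  rw [hk] at h2i hi
  rcases Nat.eq_zero_or_pos i with rfl | hi0
  · left
    rw [pow_zero, pow_one] at hpow
    have hzz : z * z = 1 := by nth_rewrite 2 [hpow]; exact mul_inv_cancel₀ hz0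
    obtain ⟨c, hc, hzc⟩ : ∃ c : F, c * c = 1 ∧ f ∣ X - C c := by
      rcases mul_self_eq_one_iff.1 hzz with h | h
      · exact ⟨1, one_mul 1, hdvd _ (by rw [map_sub, aeval_X, aeval_C, h, map_one, sub_self])⟩
      · exact ⟨-1, by ring, hdvd _ (by rw [map_sub, aeval_X, aeval_C, h, map_neg, map_one, sub_self])⟩
    refine ⟨le_antisymm ?_ hf.natDegree_pos, c, hc, hzc⟩
    exact (natDegree_le_of_dvd hzc (X_sub_C_ne_zero c)).trans (natDegree_X_sub_C c).le
  · right
    obtain ⟨t, ht⟩ := h2i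
    have ht1 : t = 1 := by
      rcases t with _ | _ | t
      · omega
      · rfl
      · nlinarith
    subst ht1
    refine ⟨i, hi0, by omega, hdvd _ ?_⟩
    rw [map_sub, map_pow, aeval_X, map_one, pow_succ, hpow, inv_mul_cancel₀ hz0, sub_self]

/-- If `f` divides `X ^ (2h) - 1` then it divides `X ^ h - c` with `c = ± 1`. -/
theorem exists_sign {f : F[X]} (hf : Irreducible f) {h : ℕ} (hd : f ∣ X ^ (2 * h) - 1) :
    ∃ c : F, c * c = 1 ∧ f ∣ X ^ h - C c := by
  have e : (X : F[X]) ^ (2 * h) - 1 = (X ^ h - C 1) * (X ^ h - C (-1)) := by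
    rw [map_neg, map_one, mul_comm 2, pow_mul]; ring
  rw [e] at hd
  rcases hf.prime.dvd_or_dvd hd with h1 | h1
  · exact ⟨1, one_mul 1, h1⟩
  · exact ⟨-1, by ring, h1⟩

theorem exists_idem {A : Matrix (Fin n ⊕ Fin n) (Fin n ⊕ Fin n) F} {f b : F[X]} {a : ℕ} (hf : Irreducible f)
    (hb : minpoly F A = f ^ a * b) (hfb : ¬ f ∣ b) :
    ∃ P : F[X], aeval A P * aeval A P = aeval A P ∧ aeval A b * aeval A P = 0 ∧
      aeval A (f ^ a) * (1 - aeval A P) = 0 := by
  obtain ⟨x, y, hxy⟩ := ((hf.coprime_iff_not_dvd).mpr hfb).pow_left (m := a)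
  have h0 : ∀ R : F[X], aeval A ((f ^ a * b) * R) = 0 := fun R =>
    aeval_eq_zero_of_dvd_aeval_eq_zero ⟨R, by rw [hb]⟩ (minpoly.aeval F A)
  refine ⟨x * f ^ a, ?_, ?_, ?_⟩
  · rw [← map_mul, show (x * f ^ a) * (x * f ^ a) = x * f ^ a - (f ^ a * b) * (x * y) by
      linear_combination (x * f ^ a) * hxy, map_sub, h0, sub_zero]
  · rw [← map_mul, show b * (x * f ^ a) = (f ^ a * b) * x by ring, h0]
  · rw [← map_one (aeval (R := F) A), ← map_sub, ← map_mul,
      show f ^ a * (1 - x * f ^ a) = (f ^ a * b) * y by linear_combination (-(f ^ a)) * hxy, h0]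

set_option maxHeartbeats 1000000 in
/-- Either an involution commutes, or the eigenvalue structure is very restricted. -/
theorem sp_structure (hn : 1 ≤ n) (h2 : (2 : F) ≠ 0) (A : Matrix.symplecticGroup (Fin n) F) :
    (∃ w : Matrix.symplecticGroup (Fin n) F, w * A = A * w ∧ w * w = 1 ∧
        w ∉ Subgroup.center (Matrix.symplecticGroup (Fin n) F)) ∨
      ∃ (f : F[X]) (a : ℕ), f.Monic ∧ Irreducible f ∧ ¬ f ∣ X ∧
        ((a * f.natDegree ≤ 2 * n ∧ f ∣ f.reverse ∧ aeval A.1 (f ^ a) = 0) ∨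
          (a * f.natDegree ≤ n ∧ ∃ e : Matrix (Fin n ⊕ Fin n) (Fin n ⊕ Fin n) F, Commute A.1 e ∧ e + adj e = 1 ∧
            aeval A.1 (f ^ a) * (1 - e) = 0)) := by
  classical
  haveI : Nonempty (Fin n ⊕ Fin n) := ⟨Sum.inl ⟨0, hn⟩⟩
  have hm : (minpoly F A.1).Monic := minpoly.monic A.1.isIntegral
  obtain ⟨f, hfm, hf, hfd⟩ := Polynomial.exists_monic_irreducible_factor _ (minpoly.not_isUnit F A.1)
  obtain ⟨a, b, hfb, hb⟩ := WfDvdMonoid.max_power_factor hm.ne_zero hf
  have ha : a ≠ 0 := by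
    rintro rfl
    rw [pow_zero, one_mul] at hb
    exact hfb (hb ▸ hfd)
  have hdeg : (minpoly F A.1).natDegree ≤ 2 * n := by
    refine (natDegree_le_of_dvd A.1.minpoly_dvd_charpoly A.1.charpoly_monic.ne_zero).trans ?_
    rw [A.1.charpoly_natDegree_eq_dim, Fintype.card_sum, Fintype.card_fin, two_mul]
  have hb0 : b ≠ 0 := fun h => hm.ne_zero (by rw [hb, h, mul_zero])
  rw [hb, natDegree_mul (pow_ne_zero _ hf.ne_zero) hb0, natDegree_pow] at hdeg
  have hfX : ¬ f ∣ X := fun h => by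
    obtain ⟨q, hq⟩ := ((hf.associated_of_dvd irreducible_X h).dvd_iff_dvd_left.1 hfd)
    have h1 : A.1 * aeval A.1 q = 0 := by
      have := minpoly.aeval F A.1
      rwa [hq, map_mul, aeval_X] at this
    have h2' : aeval A.1 q = 0 := by
      have := congrArg ((A⁻¹).1 * ·) h1
      simpa [← mul_assoc, ← Submonoid.coe_mul] using this
    have h3 := natDegree_le_of_dvd (minpoly.dvd F A.1 h2') (fun h => hm.ne_zero (by rw [hq, h, mul_zero]))
    rw [hq, natDegree_mul X_ne_zero (fun h => hm.ne_zero (by rw [hq, h, mul_zero])), natDegree_X] at h3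
    omega
  by_cases hub : IsUnit b
  · refine Or.inr ⟨f, a, hfm, hf, hfX, Or.inl ⟨by omega, ?_, ?_⟩⟩
    · have h0 : aeval A.1 (f ^ a) = 0 := by
        refine aeval_eq_zero_of_dvd_aeval_eq_zero ?_ (minpoly.aeval F A.1)
        rw [hb]; exact (hub.mul_right_dvd).2 dvd_rfl
      have h1 : aeval (A⁻¹).1 (f ^ a) = 0 := by rw [← adj_aeval, h0, adj_zero]
      have h3 : f ∣ (f ^ a).reverse := hfd.trans (minpoly.dvd F A.1 (aeval_reverse_eq_zero A h1))
      have hrev : ∀ i, (f ^ i).reverse = f.reverse ^ i := fun i => by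
        induction i with
        | zero => rw [pow_zero, pow_zero, ← C_1, reverse_C]
        | succ i ih => rw [pow_succ, reverse_mul_of_domain, ih, pow_succ]
      rw [hrev] at h3
      exact hf.prime.dvd_of_dvd_pow h3
    · refine aeval_eq_zero_of_dvd_aeval_eq_zero ?_ (minpoly.aeval F A.1)
      rw [hb]; exact (hub.mul_right_dvd).2 dvd_rfl
  obtain ⟨P, hPP, hbP, hfP⟩ := exists_idem hf hb hfb
  set e := aeval A.1 P with he
  have hAA : Commute A.1 (A⁻¹).1 := show A.1 * (A⁻¹).1 = (A⁻¹).1 * A.1 by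
    rw [← Submonoid.coe_mul, ← Submonoid.coe_mul, mul_inv_cancel, inv_mul_cancel]
  have hce : Commute A.1 e := by
    have := (Commute.all X P).map (aeval A.1)
    rwa [aeval_X] at this
  have hce' : Commute A.1 (adj e) := by
    rw [he, adj_aeval, aeval_eq_sum_range]
    exact Commute.sum_right _ _ _ fun i _ => (hAA.pow_right i).smul_right _
  have hee' : Commute e (adj e) := by
    have hpoly : ∀ (R : F[X]) (Y : Matrix (Fin n ⊕ Fin n) (Fin n ⊕ Fin n) F), Commute A.1 Y →
        Commute (aeval A.1 R) Y := fun R Y hY => by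
      rw [aeval_eq_sum_range]
      exact Commute.sum_left _ _ _ fun i _ => (hY.pow_left i).smul_left _
    exact hpoly P _ hce'
  have hPP' : adj e * adj e = adj e := by rw [← adj_mul, hPP]
  have mk : ∀ e₀ : Matrix (Fin n ⊕ Fin n) (Fin n ⊕ Fin n) F, adj e₀ = e₀ → e₀ * e₀ = e₀ → Commute A.1 e₀ →
      e₀ ≠ 0 → e₀ ≠ 1 → ∃ w : Matrix.symplecticGroup (Fin n) F, w * A = A * w ∧ w * w = 1 ∧
        w ∉ Subgroup.center (Matrix.symplecticGroup (Fin n) F) := by
    intro e₀ had hid hc h0 h1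
    let W := 1 - (2 : F) • e₀
    have hWW : W * W = 1 := by
      show (1 - (2 : F) • e₀) * (1 - (2 : F) • e₀) = 1
      rw [sub_mul, one_mul, mul_sub, mul_one, smul_mul_smul_comm, hid]
      module
    have hW : adj W = W := by rw [adj_sub, adj_one, adj_smul, had]
    refine ⟨⟨W, mem_symplectic_of_adj (by rw [hW, hWW])⟩, Subtype.ext ?_, Subtype.ext hWW, fun h => ?_⟩
    · exact (((Commute.one_right A.1).sub_right (hc.smul_right 2))).eq.symm
    · obtain ⟨c, hc1, hW' : 1 - (2 : F) • e₀ = c • 1⟩ := (center_iff hn _).1 h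
      have : e₀ = ((1 - c) / 2) • 1 := by
        have e1 : (2 : F) • e₀ = (1 - c) • 1 := by rw [sub_smul, one_smul, ← hW', sub_sub_cancel]
        rw [div_eq_inv_mul, ← smul_smul, ← e1, inv_smul_smul₀ h2]
      rcases mul_self_eq_one_iff.1 hc1 with rfl | rfl
      · exact h0 (by rw [this, sub_self, zero_div, zero_smul])
      · exact h1 (by rw [this, sub_neg_eq_add, one_add_one_eq_two, div_self h2, one_smul])
  set e₁ := e * adj e with he₁
  set e₂ := e + adj e - e * adj e with he₂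
  have h1ad : adj e₁ = e₁ := by rw [he₁, adj_mul, adj_adj]
  have h2ad : adj e₂ = e₂ := by rw [he₂, adj_sub, adj_add, adj_adj, ← he₁, h1ad]; abel
  have h1id : e₁ * e₁ = e₁ := by
    rw [he₁, hee'.symm.mul_mul_mul_comm, hPP, hPP']
  have hx1 : e * e₁ = e₁ := by rw [he₁, ← mul_assoc, hPP]
  have hx2 : adj e * e₁ = e₁ := by rw [he₁, ← mul_assoc, hee'.symm.eq, mul_assoc, hPP']
  have hx3 : e₁ * e = e₁ := by rw [he₁, mul_assoc, hee'.symm.eq, ← mul_assoc, hPP]
  have hx4 : e₁ * adj e = e₁ := by rw [he₁, mul_assoc, hPP']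
  have h2id : e₂ * e₂ = e₂ := by
    rw [he₂, ← he₁]
    simp only [add_mul, mul_add, sub_mul, mul_sub, hPP, hPP', hee'.symm.eq, ← he₁, hx1, hx2, hx3, hx4, h1id]
    abel
  by_cases c1 : e₁ ≠ 0 ∧ e₁ ≠ 1
  · exact Or.inl (mk _ h1ad h1id (hce.mul_right hce') c1.1 c1.2)
  by_cases c2 : e₂ ≠ 0 ∧ e₂ ≠ 1
  · exact Or.inl (mk _ h2ad h2id ((hce.add_right hce').sub_right (hce.mul_right hce')) c2.1 c2.2)
  have he0 : e ≠ 0 := fun h => by
    rw [h, sub_zero, mul_one] at hfP
    have hd := minpoly.dvd F A.1 hfP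
    rw [hb] at hd
    exact hub (isUnit_of_dvd_one ((mul_dvd_mul_iff_left (pow_ne_zero a hf.ne_zero)).1 (by rwa [mul_one])))
  have he1 : e ≠ 1 := fun h => by
    rw [h, mul_one] at hbP
    have hd := minpoly.dvd F A.1 hbP
    rw [hb] at hd
    exact hfb ((dvd_pow_self f ha).trans ((dvd_mul_right _ b).trans hd))
  have hne1 : e₁ ≠ 1 := fun h => he1 (by
    have := congrArg (e * ·) h
    simp only [hx1, mul_one] at this
    rw [← this, h])
  have hz1 : e₁ = 0 := by
    by_contra h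
    exact c1 ⟨h, hne1⟩
  have hz2 : e₂ ≠ 0 := fun h => he0 (by
    have h' := congrArg (e * ·) h
    simp only [he₂, mul_sub, mul_add, hPP, ← he₁, hx1, mul_zero] at h'
    simpa using h')
  have hsum : e + adj e = 1 := by
    have h : e₂ = 1 := by_contra fun h => c2 ⟨hz2, h⟩
    rw [he₂, ← he₁, hz1, sub_zero] at h
    exact h
  refine Or.inr ⟨f, a, hfm, hf, hfX, Or.inr ⟨?_, e, hce, hsum, hfP⟩⟩
  -- the part killed by `f ^ a` is a totally isotropic half
  have hadj : adj e = 1 - e := eq_sub_of_add_eq' hsum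
  have hb2 : aeval (A⁻¹).1 b * (1 - e) = 0 := by
    have h := congrArg adj hbP
    rw [adj_mul, adj_zero, hadj, adj_aeval] at h
    have hc2 : Commute (aeval (A⁻¹).1 b) (1 - e) := by
      rw [← hadj, show adj e = aeval (A⁻¹).1 P from adj_aeval A P]
      exact (Commute.all b P).map (aeval (A⁻¹).1)
    rw [hc2.eq]
    exact h
  have hb3 : aeval A.1 b.reverse * (1 - e) = 0 := by
    have key : aeval A.1 b.reverse = A.1 ^ b.natDegree * aeval (A⁻¹).1 b := by
      have h := aeval_reverse_mul A b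
      exact h
    rw [key, mul_assoc, hb2, mul_zero]
  have h0 : aeval A.1 (b * b.reverse) = 0 := by
    have hcomm : aeval A.1 b * aeval A.1 b.reverse = aeval A.1 b.reverse * aeval A.1 b := by
      rw [← map_mul, ← map_mul, mul_comm]
    rw [map_mul]
    calc aeval A.1 b * aeval A.1 b.reverse
        = aeval A.1 b.reverse * (aeval A.1 b * e) + aeval A.1 b * (aeval A.1 b.reverse * (1 - e)) := by
          rw [← mul_assoc, ← mul_assoc, hcomm]; noncomm_ring
      _ = 0 := by rw [hbP, hb3, mul_zero, mul_zero, add_zero]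
  have hd := minpoly.dvd F A.1 h0
  rw [hb] at hd
  have h4 : f ^ a ∣ b.reverse :=
    (((hf.coprime_iff_not_dvd).mpr hfb).pow_left).dvd_of_dvd_mul_left ((dvd_mul_right _ _).trans hd)
  have h5 := natDegree_le_of_dvd h4 (by rw [Ne, reverse_eq_zero]; exact hb0)
  rw [natDegree_pow] at h5
  have h6 := reverse_natDegree_le b
  omega

end Cfsg.Agent.Spectrum
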