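import Cfsg.Agent.Spectrum.Linear

/-!
Matrices over finite fields: primary decomposition idempotents, semisimple parts, and Singer cycles.
-/

set_option autoImplicit false

namespace Cfsg.Agent.Spectrum

open Polynomial Matrix

variable {F : Type*} [Field F] {ι : Type*} [Fintype ι] [DecidableEq ι]

/-- Either the minimal polynomial is a power of an irreducible, or a non-trivial idempotent commutes with `A`. -/
theorem primary_or_idempotent [Nonempty ι] (A : Matrix ι ι F) :
    (∃ f : F[X], f.Monic ∧ Irreducible f ∧ aeval A (f ^ Fintype.card ι) = 0) ∨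
      ∃ e : Matrix ι ι F, e * e = e ∧ e ≠ 0 ∧ e ≠ 1 ∧ Commute A e := by
  classical
  have hint : IsIntegral F A := A.isIntegral
  have hm : (minpoly F A).Monic := minpoly.monic hint
  have hm1 : ¬ IsUnit (minpoly F A) := minpoly.not_isUnit F A
  obtain ⟨f, hfmonic, hf, hfd⟩ := Polynomial.exists_monic_irreducible_factor _ hm1
  obtain ⟨k, b, hfb, hb⟩ := WfDvdMonoid.max_power_factor hm.ne_zero hf
  by_cases hub : IsUnit b
  · refine Or.inl ⟨f, hfmonic, hf, ?_⟩
    have hdeg : (minpoly F A).natDegree ≤ Fintype.card ι := by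
      rw [← A.charpoly_natDegree_eq_dim]
      exact natDegree_le_of_dvd A.minpoly_dvd_charpoly A.charpoly_monic.ne_zero
    have hk : k ≤ Fintype.card ι := by
      rw [hb, natDegree_mul (pow_ne_zero _ hf.ne_zero) hub.ne_zero, natDegree_pow,
        natDegree_eq_zero_of_isUnit hub, add_zero] at hdeg
      calc k = k * 1 := (mul_one k).symm
        _ ≤ k * f.natDegree := Nat.mul_le_mul_left k hf.natDegree_pos
        _ ≤ _ := hdeg
    refine aeval_eq_zero_of_dvd_aeval_eq_zero ?_ (minpoly.aeval F A)
    rw [hb]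
    exact (hub.mul_right_dvd).mpr (pow_dvd_pow f hk)
  · refine Or.inr ?_
    have hk : k ≠ 0 := by
      rintro rfl
      rw [pow_zero, one_mul] at hb
      exact hfb (hb ▸ hfd)
    obtain ⟨x, y, hxy⟩ := ((hf.coprime_iff_not_dvd).mpr hfb).pow_left (m := k)
    refine ⟨aeval A (x * f ^ k), ?_, ?_, ?_, ?_⟩
    · have h0 : aeval A ((x * f ^ k) * (y * b)) = 0 :=
        aeval_eq_zero_of_dvd_aeval_eq_zero ⟨x * y, by rw [hb]; ring⟩ (minpoly.aeval F A)
      rw [← map_mul]
      have : (x * f ^ k) * (x * f ^ k) = x * f ^ k - (x * f ^ k) * (y * b) := by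
        linear_combination (x * f ^ k) * hxy
      rw [this, map_sub, h0, sub_zero]
    · intro h
      have hd : minpoly F A ∣ x * f ^ k := minpoly.dvd F A h
      rw [hb] at hd
      exact hub (isUnit_of_dvd_one (hxy ▸ dvd_add ((dvd_mul_left b (f ^ k)).trans hd) (dvd_mul_left b y)))
    · intro h
      have h' : aeval A (y * b) = 0 := by
        have := congrArg (aeval A) hxy
        rw [map_add, map_one, h] at this
        simpa using this
      have hd : minpoly F A ∣ y * b := minpoly.dvd F A h'
      rw [hb] at hd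
      have h1 : f ^ k ∣ (1 : F[X]) := hxy ▸ dvd_add (dvd_mul_left (f ^ k) x) ((dvd_mul_right (f ^ k) b).trans hd)
      exact hf.not_isUnit (isUnit_of_dvd_one ((dvd_pow_self f hk).trans h1))
    · conv_lhs => rw [← aeval_X (R := F) A]
      exact (Commute.all _ _).map (aeval A)

theorem charpoly_eq_pow_of_aeval_irreducible [Nonempty ι] {A : Matrix ι ι F} {f : F[X]} (hfm : f.Monic)
    (hf : Irreducible f) (h : aeval A f = 0) : ∃ j, A.charpoly = f ^ j := by
  classical
  have key : ∀ g : F[X], Irreducible g → g ∣ A.charpoly → g ∣ f := by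
    intro g hg hgd
    obtain ⟨α, hα⟩ := IsAlgClosed.exists_aeval_eq_zero (AlgebraicClosure F) g (degree_pos_of_irreducible hg).ne'
    refine hg.dvd_iff_aeval_eq_zero (b := α) hα |>.mp ?_
    let φ := algebraMap F (AlgebraicClosure F)
    have hroot : (A.map φ).charpoly.IsRoot α := by
      rw [Matrix.charpoly_map, IsRoot, eval_map_algebraMap]
      exact aeval_eq_zero_of_dvd_aeval_eq_zero hgd hα
    rw [← Matrix.charpoly_toLin', ← Module.End.hasEigenvalue_iff_isRoot_charpoly] at hroot
    obtain ⟨v, hv⟩ := hroot.exists_hasEigenvector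
    have h1 := Module.End.aeval_apply_of_hasEigenvector (p := f.map φ) hv
    have h2 : aeval (Matrix.toLin' (A.map φ)) (f.map φ) = 0 := by
      have h3 : aeval (A.map φ) (f.map φ) = 0 := by
        rw [aeval_map_algebraMap]
        have := aeval_algHom_apply ((Algebra.ofId F (AlgebraicClosure F)).mapMatrix (m := ι)) A f
        rw [h, map_zero] at this
        exact this
      rw [show Matrix.toLin' (A.map φ) = (Matrix.toLinAlgEquiv' : _ ≃ₐ[AlgebraicClosure F] _) (A.map φ) from rfl,
        aeval_algEquiv, AlgHom.comp_apply, h3, map_zero]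
    rw [h2, LinearMap.zero_apply, eq_comm, smul_eq_zero, eval_map_algebraMap] at h1
    exact h1.resolve_right hv.2
  have hdvd := dvd_pow_natDegree_of_forall_irreducible A.charpoly_monic.ne_zero key
  obtain ⟨j, -, hj⟩ := (dvd_prime_pow hf.prime _).mp hdvd
  exact ⟨j, eq_of_monic_of_associated A.charpoly_monic (hfm.pow j) hj⟩

theorem natDegree_dvd_card_of_aeval_irreducible [Nonempty ι] {A : Matrix ι ι F} {f : F[X]} (hfm : f.Monic)
    (hf : Irreducible f) (h : aeval A f = 0) : f.natDegree ∣ Fintype.card ι := by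
  obtain ⟨j, hj⟩ := charpoly_eq_pow_of_aeval_irreducible hfm hf h
  rw [← A.charpoly_natDegree_eq_dim, hj, natDegree_pow]
  exact dvd_mul_left _ _

theorem det_eq_of_aeval_irreducible [Nonempty ι] {A B : Matrix ι ι F} {f : F[X]} (hfm : f.Monic)
    (hf : Irreducible f) (hA : aeval A f = 0) (hB : aeval B f = 0) : A.det = B.det := by
  obtain ⟨i, hi⟩ := charpoly_eq_pow_of_aeval_irreducible hfm hf hA
  obtain ⟨j, hj⟩ := charpoly_eq_pow_of_aeval_irreducible hfm hf hB
  have : i = j := by
    have h1 := congrArg natDegree hi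
    have h2 := congrArg natDegree hj
    rw [A.charpoly_natDegree_eq_dim, natDegree_pow] at h1
    rw [B.charpoly_natDegree_eq_dim, natDegree_pow] at h2
    exact Nat.eq_of_mul_eq_mul_right hf.natDegree_pos (h1.symm.trans h2)
  rw [Matrix.det_eq_sign_charpoly_coeff, Matrix.det_eq_sign_charpoly_coeff, hi, hj, this]

/-- Matrices killed by the same irreducible polynomial have the same scalar powers. -/
theorem pow_eq_scalar_iff [Nonempty ι] {A B : Matrix ι ι F} {f : F[X]} (hfm : f.Monic) (hf : Irreducible f)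
    (hA : aeval A f = 0) (hB : aeval B f = 0) (d : ℕ) (c : F) :
    A ^ d = c • (1 : Matrix ι ι F) ↔ B ^ d = c • (1 : Matrix ι ι F) := by
  have key : ∀ C : Matrix ι ι F, aeval C f = 0 → (C ^ d = c • (1 : Matrix ι ι F) ↔ f ∣ X ^ d - Polynomial.C c) := by
    intro C hC
    rw [minpoly.eq_of_irreducible_of_monic hf hC hfm, minpoly.dvd_iff, map_sub, map_pow, aeval_X, aeval_C,
      sub_eq_zero, Algebra.algebraMap_eq_smul_one]
  rw [key A hA, key B hB]

variable [Fintype F]

theorem aeval_pow_card_pow (A : Matrix ι ι F) (f : F[X]) (t : ℕ) :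
    aeval (A ^ Fintype.card F ^ t) f = aeval A f ^ Fintype.card F ^ t := by
  induction t with
  | zero => simp
  | succ t ih =>
    rw [pow_succ, pow_mul, pow_mul, ← ih, ← map_pow, ← FiniteField.expand_card, expand_aeval]

theorem semisimple_part {A : Matrix ι ι F} {f : F[X]} (h : aeval A (f ^ Fintype.card ι) = 0) {t : ℕ}
    (ht : Fintype.card ι ≤ Fintype.card F ^ t) : aeval (A ^ Fintype.card F ^ t) f = 0 := by
  rw [aeval_pow_card_pow]
  rw [map_pow] at h
  exact pow_eq_zero_of_le ht h

/-- A root of an irreducible polynomial whose degree divides `n`, as an element of the Singer cycle. -/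
theorem exists_singer_root (p : ℕ) [Fact p.Prime] [CharP F p] {n : ℕ} [NeZero n] {f : F[X]} (hfm : f.Monic)
    (hf : Irreducible f) (hdvd : f.natDegree ∣ n) (b : Module.Basis (Fin n) F (FiniteField.Extension F p n)) :
    ∃ z : FiniteField.Extension F p n, aeval (Algebra.leftMulMatrix b z) f = 0 := by
  have h1 := hf.natDegree_dvd_iff_dvd_X_pow_card_pow_sub_X.mp hdvd
  have hs : (f.map (algebraMap F (FiniteField.Extension F p n))).Splits := by
    refine Polynomial.Splits.of_dvd ?_ ?_ (Polynomial.map_dvd (algebraMap _ (FiniteField.Extension F p n)) h1)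
    · exact IsSplittingField.splits _ _
    · exact Polynomial.map_ne_zero (FiniteField.X_pow_card_pow_sub_X_ne_zero _ (NeZero.ne n) Finite.one_lt_card)
  obtain ⟨z, hz⟩ := hs.exists_eval_eq_zero (by
    rw [degree_map]; exact (degree_pos_of_irreducible hf).ne')
  refine ⟨z, ?_⟩
  rw [eval_map_algebraMap] at hz
  rw [aeval_algHom_apply, hz, map_zero]

end Cfsg.Agent.Spectrum
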