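import Mathlib

/-!
Element orders in powers of a group.
-/

set_option autoImplicit false

namespace Cfsg.Agent.Spectrum

/-- gcd distributes over a finite lcm. -/
theorem gcd_finsetLcm {ι : Type*} (L : ℕ) (s : Finset ι) (f : ι → ℕ) (h : ∀ i ∈ s, f i ≠ 0) :
    Nat.gcd L (s.lcm f) = s.lcm (fun i => Nat.gcd L (f i)) := by
  rcases Nat.eq_zero_or_pos L with rfl | hL
  · simp [Nat.gcd_zero_left]
  apply Nat.dvd_antisymm
  · have hne : s.lcm (fun i => Nat.gcd L (f i)) ≠ 0 := by
      simp only [ne_eq, Finset.lcm_eq_zero_iff]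
      push_neg
      intro i hi
      simp [hL.ne']
    refine (Nat.dvd_iff_prime_pow_dvd_dvd _ _).mpr fun p k hp hpk => ?_
    rcases Nat.eq_zero_or_pos k with rfl | hk
    · simp
    rw [Nat.dvd_gcd_iff] at hpk
    by_contra hcon
    have key : ∀ t : Finset ι, (∀ i ∈ t, f i ≠ 0) → (∀ i ∈ t, ¬ p ^ k ∣ f i) → ¬ p ^ k ∣ t.lcm f := by
      classical
      intro t
      induction t using Finset.induction_on with
      | empty =>
        intro _ _ hd
        rw [Finset.lcm_empty, Nat.dvd_one, Nat.pow_eq_one] at hd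
        exact hd.elim hp.one_lt.ne' hk.ne'
      | insert a t ha ih =>
        intro hz hn hd
        have hza : f a ≠ 0 := hz a (by simp)
        have hzt : t.lcm f ≠ 0 := by
          simp only [ne_eq, Finset.lcm_eq_zero_iff]
          push_neg
          intro i hi
          exact hz i (by simp [hi])
        rw [Finset.lcm_insert] at hd
        have hd' : p ^ k ∣ Nat.lcm (f a) (t.lcm f) := hd
        rw [hp.pow_dvd_iff_le_factorization (Nat.lcm_ne_zero hza hzt), Nat.factorization_lcm hza hzt,
          Finsupp.sup_apply, le_sup_iff] at hd'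
        rcases hd' with h1 | h1
        · exact hn a (by simp) ((hp.pow_dvd_iff_le_factorization hza).mpr h1)
        · exact ih (fun i hi => hz i (by simp [hi])) (fun i hi => hn i (by simp [hi]))
            ((hp.pow_dvd_iff_le_factorization hzt).mpr h1)
    refine key s h (fun i hi hd => hcon ?_) hpk.2
    exact (Nat.dvd_gcd hpk.1 hd).trans (Finset.dvd_lcm (f := fun i => Nat.gcd L (f i)) hi)
  · refine Finset.lcm_dvd fun i hi => ?_
    exact Nat.dvd_gcd (Nat.gcd_dvd_left _ _) ((Nat.gcd_dvd_right _ _).trans (Finset.dvd_lcm hi))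

/-- A divisor of an element order is an element order. -/
theorem exists_orderOf_eq_of_dvd {G : Type*} [Monoid G] {g : G} (hg : orderOf g ≠ 0) {d : ℕ}
    (hd : d ∣ orderOf g) : ∃ h : G, orderOf h = d :=
  ⟨g ^ (orderOf g / d), orderOf_pow_orderOf_div hg hd⟩

/-- A number dividing the lcm of a finite family of element orders is the order of an element of the power. -/
theorem exists_pi_orderOf_eq {ι G : Type*} [Fintype ι] [Monoid G] (e : ι → G)
    (he : ∀ i, orderOf (e i) ≠ 0) {L : ℕ} (hL : L ∣ Finset.univ.lcm fun i => orderOf (e i)) :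
    ∃ f : ι → G, orderOf f = L := by
  have h1 := gcd_finsetLcm L Finset.univ (fun i => orderOf (e i)) (fun i _ => he i)
  rw [Nat.gcd_eq_left hL] at h1
  choose f hf using fun i => exists_orderOf_eq_of_dvd (he i) (Nat.gcd_dvd_right L (orderOf (e i)))
  exact ⟨f, by rw [Pi.orderOf, h1]; exact Finset.lcm_congr rfl fun i _ => hf i⟩

/-- If the orders of `k₀` fixed elements absorb every element order, then the powers `G^k`, `k ≥ k₀`, all have
the same element orders. -/
theorem range_orderOf_pi_eq {G : Type*} [Group G] [Finite G] {k k₀ : ℕ} (hk : k₀ ≤ k) (e : Fin k₀ → G)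
    (hcov : ∀ g : G, orderOf g ∣ Finset.univ.lcm fun i => orderOf (e i)) :
    Set.range (orderOf : (Fin k → G) → ℕ) = Set.range (orderOf : (Fin k₀ → G) → ℕ) := by
  ext L
  constructor
  · rintro ⟨f, rfl⟩
    refine exists_pi_orderOf_eq e (fun i => (orderOf_pos _).ne') ?_
    rw [Pi.orderOf]
    exact Finset.lcm_dvd fun i _ => hcov _
  · rintro ⟨f, rfl⟩
    let f' : Fin k → G := fun i => if h : (i : ℕ) < k₀ then f ⟨i, h⟩ else 1
    refine ⟨f', ?_⟩
    rw [Pi.orderOf, Pi.orderOf]
    refine Nat.dvd_antisymm (Finset.lcm_dvd fun i _ => ?_) (Finset.lcm_dvd fun i _ => ?_)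
    · by_cases h : (i : ℕ) < k₀
      · simp only [f', dif_pos h]
        exact Finset.dvd_lcm (f := fun j : Fin k₀ => orderOf (f j)) (Finset.mem_univ (⟨(i : ℕ), h⟩ : Fin k₀))
      · simp [f', dif_neg h]
    · have : f' (Fin.castLE hk i) = f i := by simp [f', i.isLt]
      rw [← this]
      exact Finset.dvd_lcm (f := fun j => orderOf (f' j)) (Finset.mem_univ _)

end Cfsg.Agent.Spectrum
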