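import Cfsg.Agent.Spectrum.Products
import Cfsg.Agent.Spectrum.Primary

/-!
The facts about element orders of `PSL_n(q)` behind `ω(PSL³) = ω(PSL³ × Z_r^m)`.
-/

set_option autoImplicit false

namespace Cfsg.Agent.Spectrum

open Polynomial Matrix

variable {F : Type*} [Field F] {n : ℕ}

/-- The natural map `SL_n → PSL_n`. -/
noncomputable def toPSL (n : ℕ) (F : Type*) [Field F] :
    Matrix.SpecialLinearGroup (Fin n) F →* Matrix.ProjectiveSpecialLinearGroup (Fin n) F :=
  QuotientGroup.mk' _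

theorem toPSL_eq_one_iff [NeZero n] (A : Matrix.SpecialLinearGroup (Fin n) F) :
    toPSL n F A = 1 ↔ ∃ c : F, (A : Matrix (Fin n) (Fin n) F) = c • (1 : Matrix (Fin n) (Fin n) F) := by
  rw [toPSL, QuotientGroup.mk'_apply, QuotientGroup.eq_one_iff, Matrix.SpecialLinearGroup.mem_center_iff]
  constructor
  · rintro ⟨c, -, hc⟩
    exact ⟨c, by rw [Matrix.smul_one_eq_diagonal, ← hc, Matrix.scalar_apply]⟩
  · rintro ⟨c, hc⟩
    refine ⟨c, ?_, by rw [Matrix.scalar_apply, hc, Matrix.smul_one_eq_diagonal]⟩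
    have := congrArg Matrix.det hc
    rw [A.det_coe, Matrix.det_smul, Matrix.det_one, mul_one] at this
    exact this.symm

theorem orderOf_toPSL_dvd_iff [NeZero n] (A : Matrix.SpecialLinearGroup (Fin n) F) (d : ℕ) :
    orderOf (toPSL n F A) ∣ d ↔ ∃ c : F, (A : Matrix (Fin n) (Fin n) F) ^ d = c • (1 : Matrix (Fin n) (Fin n) F) := by
  rw [orderOf_dvd_iff_pow_eq_one, ← map_pow, toPSL_eq_one_iff, Matrix.SpecialLinearGroup.coe_pow]

/-- `GL`-elements of determinant one, as elements of `SL`. -/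
theorem exists_sl_of_gl (g : GL (Fin n) F) (h : (g : Matrix (Fin n) (Fin n) F).det = 1) :
    ∃ A : Matrix.SpecialLinearGroup (Fin n) F, (A : Matrix (Fin n) (Fin n) F) = (g : Matrix (Fin n) (Fin n) F) ∧
      Matrix.SpecialLinearGroup.toGL A = g := by
  obtain ⟨A, hA⟩ : ∃ A : Matrix.SpecialLinearGroup (Fin n) F,
      (A : Matrix (Fin n) (Fin n) F) = (g : Matrix (Fin n) (Fin n) F) := ⟨⟨_, h⟩, rfl⟩
  exact ⟨A, hA, Units.ext hA⟩

theorem pow_prime_pow_eq_one {p : ℕ} [Fact p.Prime] [CharP F p] {c : F} {s : ℕ} (h : c ^ p ^ s = 1) : c = 1 := by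
  have : (c - 1) ^ p ^ s = 0 := by rw [sub_pow_char_pow, h, one_pow, sub_self]
  exact sub_eq_zero.mp (pow_eq_zero_iff (pow_ne_zero _ (Fact.out : p.Prime).ne_zero) |>.mp this)

theorem orderOf_toPSL_of_unipotent [NeZero n] {p : ℕ} [Fact p.Prime] [CharP F p] {s : ℕ}
    (A : Matrix.SpecialLinearGroup (Fin n) F) (hA : orderOf A = p ^ s) : orderOf (toPSL n F A) = p ^ s := by
  refine Nat.dvd_antisymm (hA ▸ orderOf_map_dvd _ A) ?_
  obtain ⟨c, hc⟩ := (orderOf_toPSL_dvd_iff A _).mp dvd_rfl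
  have h1 : (A : Matrix (Fin n) (Fin n) F) ^ p ^ s = 1 := by
    rw [← hA, ← Matrix.SpecialLinearGroup.coe_pow, pow_orderOf_eq_one, Matrix.SpecialLinearGroup.coe_one]
  have h2 : c ^ p ^ s = 1 := by
    have h3 := congrArg (· ^ p ^ s) hc
    simp only [← pow_mul, mul_comm _ (p ^ s), _root_.smul_pow, one_pow] at h3
    rw [pow_mul, h1, one_pow] at h3
    have h4 := congrFun (congrFun h3 0) 0
    simpa using h4.symm
  rw [pow_prime_pow_eq_one h2, one_smul] at hc
  rw [← hA, orderOf_dvd_iff_pow_eq_one]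
  exact Subtype.ext (by rw [Matrix.SpecialLinearGroup.coe_pow, hc, Matrix.SpecialLinearGroup.coe_one])

/-- Elements of `E^*` of norm one in a Singer cycle, mapped to `PSL_n`; the image is cyclic. -/
theorem exists_singer_psl [Fintype F] (p : ℕ) [Fact p.Prime] [CharP F p] [NeZero n] :
    ∃ c : Matrix.ProjectiveSpecialLinearGroup (Fin n) F, orderOf c ∣ Fintype.card F ^ n - 1 ∧
      ∀ (A : Matrix.SpecialLinearGroup (Fin n) F) (f : F[X]), f.Monic → Irreducible f →
        aeval (A : Matrix (Fin n) (Fin n) F) f = 0 → orderOf (toPSL n F A) ∣ orderOf c := by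
  let E := FiniteField.Extension F p n
  let b : Module.Basis (Fin n) F E := Module.finBasisOfFinrankEq F E (FiniteField.finrank_extension F p n)
  let S : Eˣ →* GL (Fin n) F := Units.map (Algebra.leftMulMatrix b).toRingHom.toMonoidHom
  let N : Subgroup (Matrix.SpecialLinearGroup (Fin n) F) := S.range.comap Matrix.SpecialLinearGroup.toGL
  have hN : IsCyclic ↥N := by
    haveI : IsCyclic ↥S.range := isCyclic_of_surjective S.rangeRestrict S.rangeRestrict_surjective
    refine isCyclic_of_injective ((Matrix.SpecialLinearGroup.toGL.comp N.subtype).codRestrict S.range fun x => x.2) ?_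
    intro x y h
    exact Subtype.ext (Matrix.SpecialLinearGroup.toGL_injective (congrArg Subtype.val h))
  obtain ⟨g, hg⟩ := IsCyclic.exists_generator (α := ↥N)
  refine ⟨toPSL n F g.1, ?_, fun A f hfm hf hA => ?_⟩
  · refine (orderOf_map_dvd _ _).trans ?_
    rw [← orderOf_injective _ Matrix.SpecialLinearGroup.toGL_injective]
    obtain ⟨z, hz⟩ : Matrix.SpecialLinearGroup.toGL g.1 ∈ S.range := g.2
    rw [← hz]
    refine (orderOf_map_dvd S z).trans ((orderOf_dvd_natCard z).trans ?_)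
    rw [Nat.card_units, FiniteField.natCard_extension, Nat.card_eq_fintype_card]
  · have hk := natDegree_dvd_card_of_aeval_irreducible hfm hf hA
    rw [Fintype.card_fin] at hk
    obtain ⟨z, hz⟩ := exists_singer_root p hfm hf hk b
    have hdet : (Algebra.leftMulMatrix b z).det = 1 :=
      (det_eq_of_aeval_irreducible hfm hf hz hA).trans A.det_coe
    have hz0 : z ≠ 0 := by
      rintro rfl
      rw [map_zero, Matrix.det_zero] at hdet
      exact zero_ne_one hdet
    obtain ⟨B, hB, hB'⟩ := exists_sl_of_gl (S (Units.mk0 z hz0)) hdet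
    have hBN : B ∈ N := ⟨Units.mk0 z hz0, hB'.symm⟩
    have hBz : (B : Matrix (Fin n) (Fin n) F) = Algebra.leftMulMatrix b z := hB
    have h1 : orderOf (toPSL n F A) ∣ orderOf (toPSL n F B) := by
      obtain ⟨c, hc⟩ := (orderOf_toPSL_dvd_iff B _).mp dvd_rfl
      refine (orderOf_toPSL_dvd_iff A _).mpr ⟨c, ?_⟩
      exact (pow_eq_scalar_iff hfm hf hA (hBz ▸ hz) _ c).mpr hc
    refine h1.trans ?_
    obtain ⟨i, hi⟩ := Subgroup.mem_zpowers_iff.mp (hg ⟨B, hBN⟩)
    have : B = g.1 ^ i := (congrArg Subtype.val hi).symm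
    rw [this, map_zpow]
    exact orderOf_dvd_of_mem_zpowers (Subgroup.mem_zpowers_iff.mpr ⟨i, rfl⟩)

/-- `ζ`-scalings along an idempotent. -/
theorem idem_scale_mul {e : Matrix (Fin n) (Fin n) F} (he : e * e = e) (a b : F) :
    (1 + (a - 1) • e) * (1 + (b - 1) • e) = 1 + (a * b - 1) • e := by
  rw [add_mul, one_mul, mul_add, mul_one, smul_mul_smul_comm, he]
  module

theorem idem_scale_pow {e : Matrix (Fin n) (Fin n) F} (he : e * e = e) (a : F) (k : ℕ) :
    (1 + (a - 1) • e) ^ k = 1 + (a ^ k - 1) • e := by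
  induction k with
  | zero => simp
  | succ k ih => rw [pow_succ, ih, idem_scale_mul he, ← pow_succ]

/-- An element commuting with an idempotent has an element of order `r` commuting with it in `PSL_n`. -/
theorem exists_commuting_of_idempotent [NeZero n] {r : ℕ} (hr : r.Prime) (hrn : ¬ r ∣ n) {ζ : F}
    (hζ : IsPrimitiveRoot ζ r) (A : Matrix.SpecialLinearGroup (Fin n) F) {e : Matrix (Fin n) (Fin n) F}
    (he : e * e = e) (he0 : e ≠ 0) (he1 : e ≠ 1) (hcomm : Commute (A : Matrix (Fin n) (Fin n) F) e) :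
    ∃ w : Matrix.ProjectiveSpecialLinearGroup (Fin n) F, orderOf w = r ∧ Commute (toPSL n F A) w := by
  haveI : NeZero r := ⟨hr.ne_zero⟩
  let B := 1 + (ζ - 1) • e
  have hBr : B ^ r = 1 := by rw [idem_scale_pow he, hζ.pow_eq_one, sub_self, zero_smul, add_zero]
  obtain ⟨j, -, hj⟩ := hζ.eq_pow_of_pow_eq_one (ξ := B.det) (by rw [← Matrix.det_pow, hBr, Matrix.det_one])
  obtain ⟨t, -, ht⟩ := Nat.exists_mul_mod_eq_one_of_coprime (Nat.Coprime.symm (hr.coprime_iff_not_dvd.mpr hrn)) hr.one_lt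
  let s := t * (r - 1) * j
  let Z := ζ ^ s • B
  have hdet : Z.det = 1 := by
    rw [Matrix.det_smul, Fintype.card_fin, ← hj, ← pow_mul, ← pow_add]
    refine hζ.pow_eq_one_iff_dvd _ |>.mpr ?_
    rw [Nat.dvd_iff_mod_eq_zero]
    have e1 : s * n + j = n * t * ((r - 1) * j) + j := by simp only [s]; ring
    rw [e1, Nat.add_mod, Nat.mul_mod, ht, one_mul, Nat.mod_mod, ← Nat.add_mod]
    have e2 : (r - 1) * j + j = r * j := by
      rw [← Nat.succ_mul, Nat.succ_eq_add_one, Nat.sub_add_cancel hr.one_le]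
    rw [e2, Nat.mul_mod_right]
  obtain ⟨W, hW⟩ : ∃ W : Matrix.SpecialLinearGroup (Fin n) F, (W : Matrix (Fin n) (Fin n) F) = Z := ⟨⟨Z, hdet⟩, rfl⟩
  refine ⟨toPSL n F W, ?_, ?_⟩
  · haveI : Fact r.Prime := ⟨hr⟩
    refine orderOf_eq_prime ?_ ?_
    · rw [← map_pow, toPSL_eq_one_iff]
      refine ⟨(ζ ^ s) ^ r, ?_⟩
      rw [Matrix.SpecialLinearGroup.coe_pow, hW, _root_.smul_pow, hBr]
    · rw [ne_eq, toPSL_eq_one_iff, hW]
      rintro ⟨c, hc⟩
      have hs0 : ζ ^ s ≠ 0 := pow_ne_zero _ (hζ.ne_zero hr.ne_zero)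
      have hB : B = ((ζ ^ s)⁻¹ * c) • (1 : Matrix (Fin n) (Fin n) F) := by
        rw [← smul_smul, ← hc, inv_smul_smul₀ hs0]
      have hz1 : ζ - 1 ≠ 0 := sub_ne_zero.mpr (hζ.ne_one hr.one_lt)
      have he' : e = ((ζ - 1)⁻¹ * ((ζ ^ s)⁻¹ * c - 1)) • (1 : Matrix (Fin n) (Fin n) F) := by
        rw [← smul_smul, sub_smul, one_smul, ← hB, add_sub_cancel_left, inv_smul_smul₀ hz1]
      rw [he'] at he he0 he1
      simp only [smul_mul_assoc, one_mul, smul_smul] at he
      have h00 := congrFun (congrFun he 0) 0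
      simp only [Matrix.smul_apply, Matrix.one_apply_eq, smul_eq_mul, mul_one] at h00
      rcases eq_or_ne ((ζ - 1)⁻¹ * ((ζ ^ s)⁻¹ * c - 1)) 0 with h0 | h0
      · exact he0 (by rw [h0, zero_smul])
      · exact he1 (by rw [mul_eq_left₀ h0 |>.mp h00, one_smul])
  · refine Commute.map ?_ _
    refine Subtype.ext ?_
    rw [Matrix.SpecialLinearGroup.coe_mul, Matrix.SpecialLinearGroup.coe_mul, hW]
    exact (((Commute.one_right _).add_right (hcomm.smul_right (ζ - 1))).smul_right (ζ ^ s)).eq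

theorem psl_dichotomy [Fintype F] [NeZero n] (p : ℕ) [Fact p.Prime] [CharP F p] {r : ℕ} (hr : r.Prime)
    (hrn : ¬ r ∣ n) {ζ : F} (hζ : IsPrimitiveRoot ζ r) {Q : ℕ}
    (hQ : ∀ (A : Matrix.SpecialLinearGroup (Fin n) F) (f : F[X]), f.Monic → Irreducible f →
      aeval (A : Matrix (Fin n) (Fin n) F) f = 0 → orderOf (toPSL n F A) ∣ Q)
    (g : Matrix.ProjectiveSpecialLinearGroup (Fin n) F) :
    (∃ x : Matrix.ProjectiveSpecialLinearGroup (Fin n) F, orderOf x = Nat.lcm (orderOf g) r) ∨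
      orderOf g ∣ p ^ Nat.clog p n * Q := by
  obtain ⟨A, rfl⟩ := QuotientGroup.mk'_surjective _ g
  change (∃ x, orderOf x = Nat.lcm (orderOf (toPSL n F A)) r) ∨ orderOf (toPSL n F A) ∣ _
  by_cases hrd : r ∣ orderOf (toPSL n F A)
  · exact Or.inl ⟨_, (Nat.lcm_eq_left hrd).symm⟩
  rcases primary_or_idempotent (A : Matrix (Fin n) (Fin n) F) with ⟨f, hfm, hf, hfA⟩ | ⟨e, he, he0, he1, hc⟩
  · right
    obtain ⟨a, hp, hFp⟩ := FiniteField.card F p
    have hq : 1 < Fintype.card F := Fintype.one_lt_card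
    have hnp : n ≤ Fintype.card F ^ n := (Nat.lt_pow_self hq).le
    set t := Fintype.card F ^ n with ht
    have h1 : aeval ((A ^ t : Matrix.SpecialLinearGroup (Fin n) F) : Matrix (Fin n) (Fin n) F) f = 0 := by
      rw [Matrix.SpecialLinearGroup.coe_pow]
      exact semisimple_part hfA (by rwa [Fintype.card_fin])
    have ho := hQ _ f hfm hf h1
    rw [map_pow] at ho
    set d := orderOf (toPSL n F A) with hd
    set o := orderOf (toPSL n F A ^ t) with hodef
    have hdo : d ∣ t * o := by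
      rw [hd, orderOf_dvd_iff_pow_eq_one, pow_mul, hodef, pow_orderOf_eq_one]
    set N := (Finset.Icc 1 n).lcm fun i => Fintype.card F ^ i - 1 with hN
    have hdN : d ∣ N * p ^ Nat.clog p n := by
      refine (orderOf_map_dvd _ A).trans ?_
      rw [← orderOf_injective _ Matrix.SpecialLinearGroup.toGL_injective]
      refine orderOf_dvd_of_pow_eq_one (GL_pow_eq_one p _ _ _ (fun i h1 h2 => ?_) ?_)
      · rw [Fintype.card_fin] at h2
        exact Finset.dvd_lcm (f := fun i => Fintype.card F ^ i - 1) (Finset.mem_Icc.mpr ⟨h1, h2⟩)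
      · rw [Fintype.card_fin]
        exact Nat.le_pow_clog hp.one_lt n
    have hcop : Nat.Coprime t N := by
      rw [ht, hFp, ← pow_mul]
      refine Nat.Coprime.pow_left _ (hp.coprime_iff_not_dvd.mpr ?_)
      have : ∀ s : Finset ℕ, (∀ i ∈ s, 1 ≤ i) → ¬ p ∣ s.lcm fun i => Fintype.card F ^ i - 1 := by
        intro s
        induction s using Finset.induction_on with
        | empty => simp [hp.one_lt.ne']
        | insert i s hi ih =>
          intro hs hdvd
          rw [Finset.lcm_insert] at hdvd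
          rcases hp.dvd_mul.mp (hdvd.trans (Nat.lcm_dvd_mul _ _)) with h | h
          · have h2 : p ∣ Fintype.card F ^ i := by
              rw [hFp, ← pow_mul]
              exact dvd_pow_self p (Nat.mul_ne_zero a.ne_zero (by have := hs i (by simp); omega))
            have h1 : 1 ≤ Fintype.card F ^ i := Nat.one_le_pow _ _ Fintype.card_pos
            have h3 : p ∣ 1 := by
              have := Nat.dvd_sub h2 h
              rwa [Nat.sub_sub_self h1] at this
            exact hp.one_lt.ne' (Nat.dvd_one.mp h3)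
          · exact ih (fun x hx => hs x (by simp [hx])) h
      exact this _ fun i hi => (Finset.mem_Icc.mp hi).1
    have h3 : Nat.gcd d t ∣ p ^ Nat.clog p n :=
      (Nat.Coprime.dvd_mul_left (hcop.coprime_dvd_left (Nat.gcd_dvd_right d t))).mp
        ((Nat.gcd_dvd_left d t).trans hdN)
    exact ((Nat.dvd_gcd_mul_iff_dvd_mul).mpr hdo).trans (Nat.mul_dvd_mul h3 ho)
  · left
    obtain ⟨w, hw, hwc⟩ := exists_commuting_of_idempotent hr hrn hζ A he he0 he1 hc
    refine ⟨toPSL n F A * w, ?_⟩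
    have hco : Nat.Coprime (orderOf (toPSL n F A)) (orderOf w) := by
      rw [hw]; exact Nat.Coprime.symm (hr.coprime_iff_not_dvd.mpr hrd)
    rw [hwc.orderOf_mul_eq_mul_orderOf_of_coprime hco, hw, Nat.Coprime.lcm_eq_mul (hw ▸ hco)]

/-- An element of order `r * orderOf u` from a determinant one element of `GL_(n-1)`. -/
theorem exists_psl_lcm_of_le [Fintype F] {m p : ℕ} [Fact p.Prime] [CharP F p] [NeZero (m + 1)] {r : ℕ}
    (hr : r.Prime) (hrn : ¬ r ∣ m + 1) {ζ : F} (hζ : IsPrimitiveRoot ζ r) {s : ℕ} {u : GL (Fin m) F}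
    (hu : orderOf u = p ^ s) (hud : (u : Matrix (Fin m) (Fin m) F).det = 1) (hm : m ≠ 0) (hrp : r ≠ p) :
    ∃ x : Matrix.ProjectiveSpecialLinearGroup (Fin (m + 1)) F, orderOf x = Nat.lcm (p ^ s) r := by
  obtain ⟨U, hU, hU'⟩ := exists_sl_of_gl (blockHom (u, (1 : GL (Fin 1) F))) (by rw [blockHom_det, hud]; simp)
  have hUo : orderOf U = p ^ s := by
    rw [← orderOf_injective _ Matrix.SpecialLinearGroup.toGL_injective, hU', orderOf_injective _ blockHom_injective,
      Prod.orderOf, hu]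
    simp
  let e : Matrix (Fin (m + 1)) (Fin (m + 1)) F :=
    Matrix.reindex finSumFinEquiv finSumFinEquiv (Matrix.fromBlocks (1 : Matrix (Fin m) (Fin m) F) 0 0 0)
  have he : e * e = e := by
    simp [e, Matrix.submatrix_mul_equiv, Matrix.fromBlocks_multiply]
  have he0 : e ≠ 0 := fun h => by
    have h' : Matrix.fromBlocks (1 : Matrix (Fin m) (Fin m) F) 0 0 (0 : Matrix (Fin 1) (Fin 1) F) = 0 :=
      (Matrix.reindex finSumFinEquiv finSumFinEquiv).injective (h.trans (by simp))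
    have := congrFun (congrFun h' (Sum.inl ⟨0, Nat.pos_of_ne_zero hm⟩)) (Sum.inl ⟨0, Nat.pos_of_ne_zero hm⟩)
    simp at this
  have he1 : e ≠ 1 := fun h => by
    have h' : Matrix.fromBlocks (1 : Matrix (Fin m) (Fin m) F) 0 0 (0 : Matrix (Fin 1) (Fin 1) F) = 1 :=
      (Matrix.reindex finSumFinEquiv finSumFinEquiv).injective (h.trans (by simp))
    have := congrFun (congrFun h' (Sum.inr 0)) (Sum.inr 0)
    simp at this
  have hc : Commute (U : Matrix (Fin (m + 1)) (Fin (m + 1)) F) e := by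
    rw [hU, blockHom_val]
    show _ * _ = _ * _
    simp [e, Matrix.submatrix_mul_equiv, Matrix.fromBlocks_multiply]
  obtain ⟨w, hw, hwc⟩ := exists_commuting_of_idempotent hr hrn hζ U he he0 he1 hc
  refine ⟨toPSL (m + 1) F U * w, ?_⟩
  have hco : Nat.Coprime (p ^ s) r := Nat.Coprime.pow_left _ ((Nat.coprime_primes (Fact.out : p.Prime) hr).mpr (Ne.symm hrp))
  have h1 := orderOf_toPSL_of_unipotent U hUo
  rw [hwc.orderOf_mul_eq_mul_orderOf_of_coprime (by rw [h1, hw]; exact hco), h1, hw, hco.lcm_eq_mul]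

theorem main_2510 [Fintype F] {C : Type*} [Group C] {p a : ℕ} (hp : p.Prime) (ha : 1 ≤ a)
    (hF : Fintype.card F = p ^ a) (hn : 2 ≤ n) {r : ℕ} (hr : r.Prime) (hrq : r ∣ Fintype.card F - 1) (hrn : ¬ r ∣ n)
    (hC : ∀ d : C, d ^ r = 1) :
    Set.range (orderOf : Matrix.ProjectiveSpecialLinearGroup (Fin n) F × Matrix.ProjectiveSpecialLinearGroup (Fin n) F ×
        Matrix.ProjectiveSpecialLinearGroup (Fin n) F × C → ℕ) =
      Set.range (orderOf : Matrix.ProjectiveSpecialLinearGroup (Fin n) F × Matrix.ProjectiveSpecialLinearGroup (Fin n) F ×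
        Matrix.ProjectiveSpecialLinearGroup (Fin n) F → ℕ) ∧
    ((¬ ∃ j : ℕ, n - 1 = p ^ j) →
      Set.range (orderOf : Matrix.ProjectiveSpecialLinearGroup (Fin n) F × Matrix.ProjectiveSpecialLinearGroup (Fin n) F × C → ℕ) =
      Set.range (orderOf : Matrix.ProjectiveSpecialLinearGroup (Fin n) F × Matrix.ProjectiveSpecialLinearGroup (Fin n) F → ℕ)) := by
  classical
  haveI : Fact p.Prime := ⟨hp⟩
  haveI : NeZero n := ⟨by omega⟩
  haveI : CharP F p := by
    obtain ⟨q, hq⟩ := CharP.exists F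
    obtain ⟨b, hqp, hb⟩ := FiniteField.card F q
    have h : q = p := by
      have h1 : q ∣ p ^ a := hF ▸ hb ▸ dvd_pow_self q b.ne_zero
      exact (Nat.prime_dvd_prime_iff_eq hqp hp).mp (hqp.dvd_of_dvd_pow h1)
    exact h ▸ hq
  obtain ⟨ζ, hζ⟩ : ∃ ζ : F, IsPrimitiveRoot ζ r := by
    haveI : Fact r.Prime := ⟨hr⟩
    obtain ⟨u, hu⟩ := exists_prime_orderOf_dvd_card' (G := Fˣ) r
      (by rwa [Nat.card_units, Nat.card_eq_fintype_card])
    exact ⟨u, by rw [IsPrimitiveRoot.coe_units_iff, ← hu]; exact IsPrimitiveRoot.orderOf u⟩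
  have hrp : r ≠ p := by
    rintro rfl
    have h1 : r ∣ Fintype.card F := hF ▸ dvd_pow_self r (by omega)
    have h2 : r ∣ 1 := by
      have := Nat.dvd_sub h1 hrq
      rwa [Nat.sub_sub_self Fintype.card_pos] at this
    exact hr.one_lt.ne' (Nat.dvd_one.mp h2)
  obtain ⟨c, hc, hcQ⟩ := exists_singer_psl (F := F) (n := n) p
  have hPQ : Nat.Coprime (p ^ Nat.clog p n) (orderOf c) := by
    refine Nat.Coprime.pow_left _ (hp.coprime_iff_not_dvd.mpr fun h => ?_)
    have h1 : p ∣ Fintype.card F ^ n := by rw [hF, ← pow_mul]; exact dvd_pow_self p (Nat.mul_ne_zero (by omega) (by omega))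
    have h3 : p ∣ 1 := by
      have := Nat.dvd_sub h1 (h.trans hc)
      rwa [Nat.sub_sub_self (Nat.one_le_pow _ _ Fintype.card_pos)] at this
    exact hp.one_lt.ne' (Nat.dvd_one.mp h3)
  have hdich := psl_dichotomy (F := F) (n := n) p hr hrn hζ hcQ
  obtain ⟨m, rfl⟩ : ∃ m, n = m + 1 := ⟨n - 1, by omega⟩
  obtain ⟨u, hu, hud⟩ := exists_unipotent_orderOf (F := F) p (m + 1) hn
  obtain ⟨U, -, hU⟩ := exists_sl_of_gl u hud
  have hUo : orderOf (toPSL (m + 1) F U) = p ^ Nat.clog p (m + 1) := orderOf_toPSL_of_unipotent U (by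
    rw [← orderOf_injective _ Matrix.SpecialLinearGroup.toGL_injective, hU, hu])
  obtain ⟨w, hw⟩ : ∃ w : Matrix.ProjectiveSpecialLinearGroup (Fin (m + 1)) F, orderOf w = r := by
    obtain ⟨x, hx⟩ := exists_psl_lcm_of_le (m := m) (p := p) (s := 0) hr hrn hζ (u := 1) (by simp) (by simp) (by omega) hrp
    exact ⟨x, by rw [hx, pow_zero, Nat.lcm_one_left]⟩
  refine ⟨range_orderOf_triple hr hC hPQ (dvd_of_eq hUo.symm) dvd_rfl hw hdich, fun hj => ?_⟩
  have hm2 : 2 ≤ m := by
    by_contra h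
    exact hj ⟨0, by rw [pow_zero]; omega⟩
  have hclog : Nat.clog p (m + 1) = Nat.clog p m := by
    refine le_antisymm ((Nat.clog_le_iff_le_pow hp.one_lt).mpr ?_) (Nat.clog_mono_right p (Nat.le_succ m))
    have h1 := Nat.le_pow_clog hp.one_lt m
    have h2 : p ^ Nat.clog p m ≠ m := fun h => hj ⟨_, by rw [h]; omega⟩
    omega
  obtain ⟨v, hv, hvd⟩ := exists_unipotent_orderOf (F := F) p m hm2
  obtain ⟨x, hx⟩ := exists_psl_lcm_of_le hr hrn hζ hv hvd (by omega) hrp
  exact range_orderOf_pair hr hC hPQ (u := x) (by rw [hx, hclog]) dvd_rfl hdich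

end Cfsg.Agent.Spectrum
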