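import Cfsg.Agent.Classical.UnitaryGroup
import Cfsg.Agent.Spectrum.PSL

/-!
The adjoint of a matrix for the standard Hermitian form; unitary matrices from isometries; orders in `PSU`.
-/

set_option autoImplicit false

namespace Cfsg.Agent.Spectrum

open Polynomial Cfsg.Agent.Classical Matrix

variable {F : Type*} [Field F] {σ : F →+* F} {n : ℕ}

/-- The conjugate transpose. -/
def uadj (σ : F →+* F) {ι : Type*} (X : Matrix ι ι F) : Matrix ι ι F := (X.map σ).transpose

section Adj

variable {ι : Type*} [Fintype ι] [DecidableEq ι]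

omit [DecidableEq ι] in
theorem uadj_mul (X Y : Matrix ι ι F) : uadj σ (X * Y) = uadj σ Y * uadj σ X := by
  rw [uadj, uadj, uadj, Matrix.map_mul, Matrix.transpose_mul]

omit [Fintype ι] [DecidableEq ι] in
theorem uadj_add (X Y : Matrix ι ι F) : uadj σ (X + Y) = uadj σ X + uadj σ Y := by
  ext i j; simp [uadj]

omit [Fintype ι] [DecidableEq ι] in
theorem uadj_sub (X Y : Matrix ι ι F) : uadj σ (X - Y) = uadj σ X - uadj σ Y := by
  ext i j; simp [uadj]

omit [Fintype ι] [DecidableEq ι] in
theorem uadj_smul (c : F) (X : Matrix ι ι F) : uadj σ (c • X) = σ c • uadj σ X := by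
  ext i j; simp [uadj]

omit [Fintype ι] in
theorem uadj_one : uadj σ (1 : Matrix ι ι F) = 1 := by
  rw [uadj, Matrix.map_one _ (map_zero σ) (map_one σ), Matrix.transpose_one]

omit [Fintype ι] [DecidableEq ι] in
theorem uadj_zero : uadj σ (0 : Matrix ι ι F) = 0 := by ext i j; simp [uadj]

omit [Fintype ι] [DecidableEq ι] in
theorem uadj_uadj (hσ : Herm.IsInvol σ) (X : Matrix ι ι F) : uadj σ (uadj σ X) = X := by
  ext i j; simp [uadj, hσ.invol]

theorem det_uadj (X : Matrix ι ι F) : (uadj σ X).det = σ X.det := by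
  rw [uadj, Matrix.det_transpose, RingHom.map_det]; rfl

theorem uadj_pow (X : Matrix ι ι F) (k : ℕ) : uadj σ (X ^ k) = uadj σ X ^ k := by
  induction k with
  | zero => rw [pow_zero, pow_zero, uadj_one]
  | succ k ih => rw [pow_succ, uadj_mul, ih, pow_succ']

theorem uadj_aeval (X : Matrix ι ι F) (P : F[X]) : uadj σ (aeval X P) = aeval (uadj σ X) (P.map σ) := by
  induction P using Polynomial.induction_on' with
  | add P Q hP hQ => rw [map_add, Polynomial.map_add, map_add, uadj_add, hP, hQ]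
  | monomial i c =>
    rw [Polynomial.map_monomial, aeval_monomial, aeval_monomial, Algebra.algebraMap_eq_smul_one,
      Algebra.algebraMap_eq_smul_one, smul_mul_assoc, one_mul, smul_mul_assoc, one_mul, uadj_smul, uadj_pow]

/-- The reversed polynomial at a matrix and the polynomial at its inverse. -/
theorem aeval_reverse_mul' {X Y : Matrix ι ι F} (hXY : X * Y = 1) (P : F[X]) :
    aeval X P.reverse = X ^ P.natDegree * aeval Y P := by
  suffices key : ∀ (Q : F[X]) (d : ℕ), Q.natDegree ≤ d → aeval X (Q.reflect d) = X ^ d * aeval Y Q from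
    key P _ le_rfl
  intro Q d hQ
  rw [Polynomial.as_sum_range' Q (d + 1) (by omega), map_sum, Finset.mul_sum]
  rw [show (∑ i ∈ Finset.range (d + 1), (monomial i) (Q.coeff i)).reflect d =
    ∑ i ∈ Finset.range (d + 1), ((monomial i) (Q.coeff i)).reflect d from
    map_sum ({ toFun := Polynomial.reflect d, map_zero' := Polynomial.reflect_zero,
               map_add' := fun a b => Polynomial.reflect_add a b d } : F[X] →+ F[X]) (fun i => monomial i (Q.coeff i))
      (Finset.range (d + 1)), map_sum]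
  refine Finset.sum_congr rfl fun i hi => ?_
  rw [Finset.mem_range] at hi
  rw [← C_mul_X_pow_eq_monomial, Polynomial.reflect_C_mul_X_pow, Polynomial.revAt_le (by omega)]
  simp only [map_mul, map_pow, aeval_C, aeval_X]
  have hc : Commute X Y := show X * Y = Y * X by rw [hXY, mul_eq_one_comm.1 hXY]
  have e : X ^ d * Y ^ i = X ^ (d - i) := by
    conv_lhs => rw [← Nat.sub_add_cancel (show i ≤ d by omega), pow_add, mul_assoc, ← hc.mul_pow, hXY, one_pow, mul_one]
  rw [← e, ← mul_assoc, ← mul_assoc, Algebra.commutes]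

end Adj

theorem hermB_mulVec (M : Matrix (Fin n) (Fin n) F) (u v : Fin n → F) :
    hermB n σ (M *ᵥ u) v = hermB n σ u (uadj σ M *ᵥ v) := by
  simp only [hermB_apply, Matrix.mulVec, dotProduct, uadj, Matrix.transpose_apply, Matrix.map_apply, map_sum, map_mul,
    Finset.sum_mul, Finset.mul_sum]
  rw [Finset.sum_comm]
  exact Finset.sum_congr rfl fun i _ => Finset.sum_congr rfl fun j _ => by ring

theorem isometry_iff (M : Matrix (Fin n) (Fin n) F) :
    (∀ u v, hermB n σ (M *ᵥ u) (M *ᵥ v) = hermB n σ u v) ↔ uadj σ M * M = 1 := by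
  constructor
  · intro h
    ext i j
    have := h (Pi.single i 1) (Pi.single j 1)
    rw [hermB_mulVec, Matrix.mulVec_mulVec, hermB_apply, hermB_apply] at this
    simpa [Pi.single_apply, Matrix.one_apply, Matrix.mulVec_single, apply_ite σ, @eq_comm _ j i] using this
  · intro h u v
    rw [hermB_mulVec, Matrix.mulVec_mulVec, h, Matrix.one_mulVec]

theorem mem_SU_iff_adj {q : ℕ} (hσq : ∀ x, σ x = x ^ q) (g : Matrix.SpecialLinearGroup (Fin n) F) :
    g ∈ Cfsg.SU n F q ↔ uadj σ (g : Matrix (Fin n) (Fin n) F) * g = 1 := by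
  rw [mem_SU_iff hσq, isometry_iff]

section Transfer

open Module

variable [Finite F] {V : Type*} [AddCommGroup V] [Module F V] [FiniteDimensional F V] {B : V →ₛₗ[σ] V →ₗ[F] F}

/-- Linear maps of a Hermitian space as matrices in an orthonormal basis. -/
theorem exists_matrix_model (hB : Herm.IsHerm B) (hV : finrank F V = n) :
    ∃ ψ : Module.End F V ≃ₐ[F] Matrix (Fin n) (Fin n) F, (∀ g, (ψ g).det = LinearMap.det g) ∧
      ∀ g, (∀ x y, B (g x) (g y) = B x y) → uadj σ (ψ g) * ψ g = 1 := by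
  subst hV
  obtain ⟨b, hb⟩ := Herm.exists_orthonormal hB
  refine ⟨LinearMap.toMatrixAlgEquiv b, fun g => LinearMap.det_toMatrix b g, fun g hg => ?_⟩
  have key : ∀ x y, B x y = hermB _ σ (b.equivFun x) (b.equivFun y) := by
    intro x y
    conv_lhs => rw [← b.sum_equivFun x, ← b.sum_equivFun y]
    simp only [map_sum, map_smulₛₗ, LinearMap.sum_apply, LinearMap.smul_apply, hb _ _, RingHom.id_apply, hermB_apply,
      smul_eq_mul, mul_ite, mul_one, mul_zero, Finset.sum_ite_eq', Finset.mem_univ, if_true]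
    exact Finset.sum_congr rfl fun i _ => mul_comm _ _
  rw [← isometry_iff]
  intro u v
  obtain ⟨x, rfl⟩ := b.equivFun.surjective u
  obtain ⟨y, rfl⟩ := b.equivFun.surjective v
  have e : ∀ z, LinearMap.toMatrixAlgEquiv b g *ᵥ b.equivFun z = b.equivFun (g z) := fun z => by
    rw [Basis.equivFun_apply, Basis.equivFun_apply]
    exact LinearMap.toMatrix_mulVec_repr b b g z
  rw [e, e, ← key, ← key, hg]

end Transfer

variable {q : ℕ}

/-- A unitary matrix of determinant one as an element of `SU`. -/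
theorem exists_su (hσq : ∀ x, σ x = x ^ q) {M : Matrix (Fin n) (Fin n) F} (h : uadj σ M * M = 1) (hd : M.det = 1) :
    ∃ A : Cfsg.SU n F q, ((A : Matrix.SpecialLinearGroup (Fin n) F) : Matrix (Fin n) (Fin n) F) = M :=
  ⟨⟨⟨M, hd⟩, (mem_SU_iff_adj hσq _).2 h⟩, rfl⟩

/-- The map to `PSU`. -/
noncomputable abbrev toPSU (n : ℕ) (F : Type*) [Field F] (q : ℕ) : Cfsg.SU n F q →* Cfsg.PSU n F q :=
  QuotientGroup.mk' _

theorem coe_pow_su (A : Cfsg.SU n F q) (k : ℕ) :
    (((A ^ k : Cfsg.SU n F q) : Matrix.SpecialLinearGroup (Fin n) F) : Matrix (Fin n) (Fin n) F) =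
      ((A : Matrix.SpecialLinearGroup (Fin n) F) : Matrix (Fin n) (Fin n) F) ^ k := by
  rw [SubgroupClass.coe_pow, Matrix.SpecialLinearGroup.coe_pow]

theorem orderOf_toPSU_dvd_iff [Fintype F] (hσ : Herm.IsInvol σ) (hσq : ∀ x, σ x = x ^ q)
    (hq : Nat.card (Herm.fixField σ) = q) (hn : 2 ≤ n) (A : Cfsg.SU n F q) (d : ℕ) :
    orderOf (toPSU n F q A) ∣ d ↔
      ∃ c : F, ((A : Matrix.SpecialLinearGroup (Fin n) F) : Matrix (Fin n) (Fin n) F) ^ d = c • 1 := by
  rw [orderOf_dvd_iff_pow_eq_one, ← map_pow, ← MonoidHom.mem_ker, QuotientGroup.ker_mk', ← coe_pow_su]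
  constructor
  · intro h
    obtain ⟨c, hc⟩ := center_SU_scalar hσ hσq hq hn h
    exact ⟨c, by rw [hc, Matrix.scalar_apply, Matrix.smul_one_eq_diagonal]⟩
  · rintro ⟨c, hc⟩
    refine Subgroup.mem_center_iff.2 fun B => Subtype.ext (Subtype.ext ?_)
    show ((B : Matrix.SpecialLinearGroup (Fin n) F) : Matrix (Fin n) (Fin n) F) * _ = _
    rw [hc, mul_smul_comm, mul_one]
    show _ = _ * ((B : Matrix.SpecialLinearGroup (Fin n) F) : Matrix (Fin n) (Fin n) F)
    rw [hc, smul_mul_assoc, one_mul]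

theorem pow_card_eq_zero_of_isNilpotent {ι : Type*} [Fintype ι] [DecidableEq ι] {M : Matrix ι ι F}
    (h : IsNilpotent M) : M ^ Fintype.card ι = 0 := by
  have h1 : M.charpoly = X ^ Fintype.card ι :=
    sub_eq_zero.1 (Matrix.isNilpotent_charpoly_sub_pow_of_isNilpotent h).eq_zero
  have := M.aeval_self_charpoly
  rwa [h1, map_pow, aeval_X] at this

end Cfsg.Agent.Spectrum
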