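import Cfsg.Agent.Spectrum.SUBasic

/-!
Regular unipotent elements of `SU_n(q)` and elements of prime order commuting with a self-adjoint projection.
-/

set_option autoImplicit false

namespace Cfsg.Agent.Spectrum

open Polynomial Cfsg.Agent.Classical Matrix

variable {F : Type*} [Field F] [Fintype F] {σ : F →+* F} {n q : ℕ}

omit [Fintype F] in
theorem det_eq_one_of_isNilpotent_sub {ι : Type*} [Fintype ι] [DecidableEq ι] {M : Matrix ι ι F}
    (h : IsNilpotent (1 - M)) : M.det = 1 := by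
  have h1 : (1 - M).charpoly = X ^ Fintype.card ι :=
    sub_eq_zero.1 (Matrix.isNilpotent_charpoly_sub_pow_of_isNilpotent h).eq_zero
  have h2 := Matrix.eval_charpoly (1 - M) 1
  rw [h1, eval_pow, eval_X, one_pow, map_one, sub_sub_cancel] at h2
  exact h2.symm

/-- The antidiagonal permutation matrix. -/
def antiDiag (m : ℕ) (F : Type*) [Field F] : Matrix (Fin m) (Fin m) F :=
  Matrix.of fun i j => if (j : ℕ) + i + 1 = m then 1 else 0

omit [Fintype F] in
theorem antiDiag_mul_self (m : ℕ) : antiDiag m F * antiDiag m F = 1 := by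
  ext i j
  rw [Matrix.mul_apply, Finset.sum_eq_single (⟨m - 1 - i, by have := i.isLt; omega⟩ : Fin m)]
  · have := i.isLt
    have := j.isLt
    simp only [antiDiag, Matrix.of_apply, Matrix.one_apply, Fin.ext_iff]
    rw [if_pos (by omega), one_mul]
    exact if_congr (by omega) rfl rfl
  · intro l _ hl
    simp only [antiDiag, Matrix.of_apply]
    rw [if_neg (fun he => hl (Fin.ext (by show (l : ℕ) = m - 1 - i; omega))), zero_mul]
  · simp

omit [Fintype F] in
theorem uadj_antiDiag (m : ℕ) : uadj σ (antiDiag m F) = antiDiag m F := by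
  ext i j
  simp only [uadj, Matrix.transpose_apply, Matrix.map_apply, antiDiag, Matrix.of_apply, apply_ite σ, map_one, map_zero]
  exact if_congr (by omega) rfl rfl

omit [Fintype F] in
theorem uadj_shift (m : ℕ) :
    uadj σ (shiftMatrix m F) * antiDiag m F = antiDiag m F * shiftMatrix m F := by
  ext i j
  rw [Matrix.mul_apply, Matrix.mul_apply]
  have := i.isLt
  have := j.isLt
  rw [Finset.sum_eq_single (⟨m - 1 - j, by omega⟩ : Fin m),
    Finset.sum_eq_single (⟨m - 1 - i, by omega⟩ : Fin m)]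
  · simp only [uadj, Matrix.transpose_apply, Matrix.map_apply, antiDiag, shiftMatrix, Matrix.of_apply,
      apply_ite σ, map_one, map_zero]
    rw [if_pos (show (j : ℕ) + (m - 1 - j) + 1 = m by omega), if_pos (show (m - 1 - i) + (i : ℕ) + 1 = m by omega),
      mul_one, one_mul]
    exact if_congr (by omega) rfl rfl
  · intro l _ hl
    simp only [antiDiag, Matrix.of_apply]
    rw [if_neg (fun he => hl (Fin.ext (by show (l : ℕ) = m - 1 - i; omega))), zero_mul]
  · simp
  · intro l _ hl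
    simp only [antiDiag, Matrix.of_apply]
    rw [if_neg (fun he => hl (Fin.ext (by show (l : ℕ) = m - 1 - j; omega))), mul_zero]
  · simp

/-- A unitary regular unipotent matrix. -/
theorem exists_unipotent_su (p : ℕ) [Fact p.Prime] [CharP F p] (hσ : Herm.IsInvol σ) {a : F} (ha : σ a ≠ a)
    {m : ℕ} (hm : 1 ≤ m) :
    ∃ M : Matrix (Fin m) (Fin m) F, uadj σ M * M = 1 ∧ M.det = 1 ∧ ∀ e, M ^ p ^ e = 1 ↔ m ≤ p ^ e := by
  classical
  haveI : NeZero m := ⟨by omega⟩
  set N := shiftMatrix m F with hN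
  set J := antiDiag m F with hJ
  set u := 1 + a • N with hu
  set w := 1 + σ a • N with hw
  have hNnil : IsNilpotent N := ⟨m, by
    rw [hN, shiftMatrix_pow]
    ext i j
    have := i.isLt
    simp only [Matrix.of_apply, Matrix.zero_apply, ite_eq_right_iff, one_ne_zero]
    omega⟩
  obtain ⟨W, hW⟩ : IsUnit w := (hNnil.smul (σ a)).isUnit_one_add
  have hNw : Commute N w := (Commute.one_right N).add_right ((Commute.refl N).smul_right (σ a))
  have huw : Commute u w := (Commute.one_left _).add_left (hNw.smul_left a)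
  have huJ : uadj σ u * J = J * w := by
    rw [hu, hw, uadj_add, uadj_one, uadj_smul, add_mul, mul_add, one_mul, mul_one, smul_mul_assoc, mul_smul_comm,
      hN, hJ, uadj_shift]
  have hwJ : uadj σ w * J = J * u := by
    rw [hu, hw, uadj_add, uadj_one, uadj_smul, hσ.invol, add_mul, mul_add, one_mul, mul_one, smul_mul_assoc,
      mul_smul_comm, hN, hJ, uadj_shift]
  set g := u * (W⁻¹ : (Matrix (Fin m) (Fin m) F)ˣ).val with hg
  set v := (W⁻¹ : (Matrix (Fin m) (Fin m) F)ˣ).val with hv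
  have hwv : w * v = 1 := by rw [hv, ← hW, Units.mul_inv]
  have hgJ : uadj σ g * J * g = J := by
    calc uadj σ g * J * g = uadj σ v * (uadj σ u * J) * (u * v) := by rw [hg, uadj_mul]; simp only [mul_assoc]
      _ = uadj σ v * J * (w * u) * v := by rw [huJ]; simp only [mul_assoc]
      _ = uadj σ v * J * u * (w * v) := by rw [← huw.eq]; simp only [mul_assoc]
      _ = uadj σ v * (uadj σ w * J) := by rw [hwv, hwJ, mul_one]; simp only [mul_assoc]
      _ = J := by rw [← mul_assoc, ← uadj_mul, hwv, uadj_one, one_mul]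
  have hJJ : J * J = 1 := antiDiag_mul_self m
  have hJs : uadj σ J = J := uadj_antiDiag m
  let B : (Fin m → F) →ₛₗ[σ] (Fin m → F) →ₗ[F] F := (hermB m σ).compl₂ (Matrix.toLin' J)
  have hB : Herm.IsHerm B :=
    { toIsInvol := hσ
      symm := fun x y => by
        show σ (hermB m σ x (J *ᵥ y)) = hermB m σ y (J *ᵥ x)
        rw [(hermB_isHerm hσ m).symm, hermB_mulVec, hJs]
      nondeg := fun x hx => (hermB_isHerm hσ m).nondeg x fun y => by
        have h := hx (J *ᵥ y)
        change hermB m σ x (J *ᵥ (J *ᵥ y)) = 0 at h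
        rwa [Matrix.mulVec_mulVec, hJJ, Matrix.one_mulVec] at h }
  obtain ⟨ψ, hψd, hψu⟩ := exists_matrix_model hB (Module.finrank_fin_fun F)
  let χ : Matrix (Fin m) (Fin m) F ≃ₐ[F] Matrix (Fin m) (Fin m) F := Matrix.toLinAlgEquiv'.trans ψ
  have hchar : ∀ e, g ^ p ^ e = 1 ↔ m ≤ p ^ e := fun e => by
    haveI : CharP (Matrix (Fin m) (Fin m) F) p := inferInstance
    have hu' : u ^ p ^ e = 1 + a ^ p ^ e • N ^ p ^ e := by
      rw [hu, add_pow_char_pow_of_commute _ _ (Commute.one_left _), one_pow, _root_.smul_pow]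
    have hw' : w ^ p ^ e = 1 + σ a ^ p ^ e • N ^ p ^ e := by
      rw [hw, add_pow_char_pow_of_commute _ _ (Commute.one_left _), one_pow, _root_.smul_pow]
    have hvw : v * w = 1 := by rw [hv, ← hW, Units.inv_mul]
    have huv : Commute u v := by
      have h := huw
      rw [← hW] at h
      exact h.units_inv_right
    have hwv' : Commute w v := hwv.trans hvw.symm
    have h0 : g ^ p ^ e = 1 ↔ N ^ p ^ e = 0 := by
      constructor
      · intro h
        have h1 : u ^ p ^ e = w ^ p ^ e := by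
          calc u ^ p ^ e = u ^ p ^ e * (v * w) ^ p ^ e := by rw [hvw, one_pow, mul_one]
            _ = g ^ p ^ e * w ^ p ^ e := by rw [hwv'.symm.mul_pow, hg, huv.mul_pow, mul_assoc]
            _ = w ^ p ^ e := by rw [h, one_mul]
        rw [hu', hw', add_right_inj, ← sub_eq_zero, ← sub_smul, smul_eq_zero] at h1
        refine h1.resolve_left fun hz => ha ?_
        rw [← sub_pow_char_pow, pow_eq_zero_iff (pow_ne_zero _ (Fact.out : p.Prime).ne_zero), sub_eq_zero] at hz
        exact hz.symm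
      · intro h
        rw [hg, huv.mul_pow, hu', h, smul_zero, add_zero, one_mul,
          ← one_mul (v ^ p ^ e), show (1 : Matrix (Fin m) (Fin m) F) = w ^ p ^ e by rw [hw', h, smul_zero, add_zero],
          ← hwv'.mul_pow, hwv, one_pow, hw', h, smul_zero, add_zero]
    rw [h0, hN, shiftMatrix_pow]
    constructor
    · intro h
      by_contra hlt
      have := congrFun (congrFun h ⟨p ^ e, by omega⟩) ⟨0, by omega⟩
      simp at this
    · intro h
      ext i j
      have := i.isLt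
      simp only [Matrix.of_apply, Matrix.zero_apply, ite_eq_right_iff, one_ne_zero]
      omega
  refine ⟨χ g, hψu _ fun x y => ?_, ?_, fun e => ?_⟩
  · show hermB m σ (g *ᵥ x) (J *ᵥ (g *ᵥ y)) = hermB m σ x (J *ᵥ y)
    rw [hermB_mulVec, Matrix.mulVec_mulVec, Matrix.mulVec_mulVec, hgJ]
  · show (ψ (Matrix.toLinAlgEquiv' g)).det = 1
    rw [hψd]
    show LinearMap.det (Matrix.toLin' g) = 1
    rw [LinearMap.det_toLin']
    refine det_eq_one_of_isNilpotent_sub ?_
    have h : (1 : Matrix (Fin m) (Fin m) F) - g = (σ a - a) • N * v := by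
      rw [hg, ← hwv, ← sub_mul, hw, hu, add_sub_add_left_eq_sub, sub_smul]
    rw [h, smul_mul_assoc]
    refine IsNilpotent.smul ?_ _
    refine (show Commute N v from ?_).isNilpotent_mul_right hNnil
    have h' := hNw
    rw [← hW] at h'
    exact h'.units_inv_right
  · rw [← map_pow, map_eq_one_iff χ χ.injective, hchar]

/-- A unitary matrix next to a one. -/
theorem exists_block_su (hσ : Herm.IsInvol σ) {m : ℕ} (hm : 1 ≤ m) {M : Matrix (Fin m) (Fin m) F}
    (hM : uadj σ M * M = 1) (hd : M.det = 1) :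
    ∃ (M' e₀ : Matrix (Fin (m + 1)) (Fin (m + 1)) F), uadj σ M' * M' = 1 ∧ M'.det = 1 ∧
      (∀ k, M' ^ k = 1 ↔ M ^ k = 1) ∧ uadj σ e₀ = e₀ ∧ e₀ * e₀ = e₀ ∧ e₀ ≠ 0 ∧ e₀ ≠ 1 ∧ Commute M' e₀ := by
  classical
  let Ψ : Matrix (Fin m) (Fin m) F × Matrix (Fin 1) (Fin 1) F →* Matrix (Fin (m + 1)) (Fin (m + 1)) F :=
    { toFun := fun x => Matrix.reindex finSumFinEquiv finSumFinEquiv (Matrix.fromBlocks x.1 0 0 x.2)
      map_one' := by simp
      map_mul' := fun x y => by simp [Matrix.fromBlocks_multiply, Matrix.submatrix_mul_equiv] }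
  have hΨ : Function.Injective Ψ := fun x y h => by
    have h' := (Matrix.reindex finSumFinEquiv finSumFinEquiv).injective h
    rw [Matrix.fromBlocks_inj] at h'
    exact Prod.ext h'.1 h'.2.2.2
  have hadj : ∀ x, uadj σ (Ψ x) = Ψ (uadj σ x.1, uadj σ x.2) := fun x => by
    show ((Matrix.reindex finSumFinEquiv finSumFinEquiv (Matrix.fromBlocks x.1 0 0 x.2)).map σ).transpose =
      Matrix.reindex finSumFinEquiv finSumFinEquiv (Matrix.fromBlocks (x.1.map σ).transpose 0 0 (x.2.map σ).transpose)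
    ext i j
    simp only [Matrix.reindex_apply, Matrix.transpose_apply, Matrix.map_apply, Matrix.submatrix_apply]
    rcases finSumFinEquiv.symm i with a | a <;> rcases finSumFinEquiv.symm j with b | b <;> simp
  refine ⟨Ψ (M, 1), Ψ (1, 0), ?_, ?_, fun k => ?_, ?_, ?_, ?_, ?_, ?_⟩
  · rw [hadj, ← map_mul, Prod.mk_mul_mk, hM, uadj_one, one_mul]; exact map_one Ψ
  · show (Matrix.reindex finSumFinEquiv finSumFinEquiv (Matrix.fromBlocks M 0 0 1)).det = 1
    rw [Matrix.det_reindex_self, Matrix.det_fromBlocks_zero₁₂, hd, Matrix.det_one, one_mul]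
  · rw [← map_pow, map_eq_one_iff Ψ hΨ, Prod.pow_mk, one_pow, Prod.mk_eq_one]; simp
  · rw [hadj, uadj_one, uadj_zero]
  · rw [← map_mul, Prod.mk_mul_mk, one_mul, zero_mul]
  · intro h
    have h' : Ψ (1, 0) = Matrix.reindex finSumFinEquiv finSumFinEquiv (Matrix.fromBlocks 0 0 0 0) := by
      rw [h, Matrix.fromBlocks_zero]; simp
    have h1 := (Matrix.fromBlocks_inj.1 ((Matrix.reindex _ _).injective h')).1
    exact one_ne_zero (congrFun (congrFun h1 ⟨0, hm⟩) ⟨0, hm⟩ |>.trans (by simp))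
  · intro h
    have h1 := congrArg Prod.snd (hΨ (h.trans (map_one Ψ).symm))
    exact zero_ne_one (congrFun (congrFun h1 0) 0 |>.trans (by simp))
  · exact (show Commute (M, (1 : Matrix (Fin 1) (Fin 1) F)) (1, 0) from Prod.ext (by simp) (by simp)).map Ψ

/-- The order in `PSU` of a unipotent element. -/
theorem orderOf_toPSU_of_unipotent (p : ℕ) [Fact p.Prime] [CharP F p] (hσ : Herm.IsInvol σ) (hσq : ∀ x, σ x = x ^ q)
    (hq : Nat.card (Herm.fixField σ) = q) (hn : 2 ≤ n) (A : Cfsg.SU n F q) (m : ℕ)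
    (h : ∀ e, ((A : Matrix.SpecialLinearGroup (Fin n) F) : Matrix (Fin n) (Fin n) F) ^ p ^ e = 1 ↔ m ≤ p ^ e) :
    orderOf (toPSU n F q A) = p ^ Nat.clog p m := by
  have hp : p.Prime := Fact.out
  haveI : NeZero n := ⟨by omega⟩
  have hP := (h _).2 (Nat.le_pow_clog hp.one_lt m)
  have h1 : orderOf (toPSU n F q A) ∣ p ^ Nat.clog p m :=
    (orderOf_toPSU_dvd_iff hσ hσq hq hn A _).2 ⟨1, by rw [hP, one_smul]⟩
  obtain ⟨k, hk, hk'⟩ := (Nat.dvd_prime_pow hp).1 h1
  obtain ⟨c, hc⟩ := (orderOf_toPSU_dvd_iff hσ hσq hq hn A _).1 dvd_rfl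
  rw [hk'] at hc
  have h2 : c ^ p ^ Nat.clog p m = 1 := by
    have h3 := congrArg (· ^ p ^ Nat.clog p m) hc
    simp only [← pow_mul, mul_comm _ (p ^ Nat.clog p m), _root_.smul_pow, one_pow] at h3
    rw [pow_mul, hP, one_pow] at h3
    have h4 := congrFun (congrFun h3 0) 0
    simpa using h4.symm
  rw [pow_prime_pow_eq_one h2, one_smul, h] at hc
  rw [hk', le_antisymm hk ((Nat.clog_le_iff_le_pow hp.one_lt).2 hc)]

/-- An element commuting with a self-adjoint idempotent has one of order `r` commuting with it in `PSU`. -/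
theorem exists_commuting_su (hσ : Herm.IsInvol σ) (hσq : ∀ x, σ x = x ^ q)
    (hq : Nat.card (Herm.fixField σ) = q) (hn : 2 ≤ n) {r : ℕ} (hr : r.Prime) (hrn : ¬ r ∣ n) {ζ : F}
    (hζ : IsPrimitiveRoot ζ r) (hσζ : σ ζ * ζ = 1) (A : Cfsg.SU n F q) {e : Matrix (Fin n) (Fin n) F}
    (hes : uadj σ e = e) (he : e * e = e) (he0 : e ≠ 0) (he1 : e ≠ 1)
    (hcomm : Commute ((A : Matrix.SpecialLinearGroup (Fin n) F) : Matrix (Fin n) (Fin n) F) e) :
    ∃ w : Cfsg.PSU n F q, orderOf w = r ∧ Commute (toPSU n F q A) w := by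
  haveI : NeZero r := ⟨hr.ne_zero⟩
  haveI : NeZero n := ⟨by omega⟩
  let B := 1 + (ζ - 1) • e
  have hBr : B ^ r = 1 := by rw [idem_scale_pow he, hζ.pow_eq_one, sub_self, zero_smul, add_zero]
  obtain ⟨j, -, hj⟩ := hζ.eq_pow_of_pow_eq_one (ξ := B.det) (by rw [← Matrix.det_pow, hBr, Matrix.det_one])
  obtain ⟨t, -, ht⟩ := Nat.exists_mul_mod_eq_one_of_coprime (Nat.Coprime.symm (hr.coprime_iff_not_dvd.mpr hrn)) hr.one_lt
  let s := t * (r - 1) * j
  let Z := ζ ^ s • B
  have hdet : Z.det = 1 := by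
    rw [Matrix.det_smul, Fintype.card_fin, ← hj, ← pow_mul, ← pow_add]
    refine hζ.pow_eq_one_iff_dvd _ |>.mpr ?_
    rw [Nat.dvd_iff_mod_eq_zero]
    have e1 : s * n + j = n * t * ((r - 1) * j) + j := by simp only [s]; ring
    rw [e1, Nat.add_mod, Nat.mul_mod, ht, one_mul, Nat.mod_mod, ← Nat.add_mod]
    have e2 : (r - 1) * j + j = r * j := by
      rw [← Nat.succ_mul, Nat.succ_eq_add_one, Nat.sub_add_cancel hr.one_le]
    rw [e2, Nat.mul_mod_right]
  have hadj : uadj σ Z * Z = 1 := by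
    have h1 : uadj σ Z = σ (ζ ^ s) • (1 + (σ ζ - 1) • e) := by
      rw [uadj_smul, uadj_add, uadj_one, uadj_smul, hes, map_sub, map_one]
    rw [h1, smul_mul_smul_comm, idem_scale_mul he, hσζ, sub_self, zero_smul, add_zero, map_pow, ← mul_pow, hσζ,
      one_pow, one_smul]
  obtain ⟨W, hW⟩ := exists_su hσq hadj hdet
  refine ⟨toPSU n F q W, ?_, ?_⟩
  · haveI : Fact r.Prime := ⟨hr⟩
    refine orderOf_eq_prime ?_ ?_
    · rw [← orderOf_dvd_iff_pow_eq_one, orderOf_toPSU_dvd_iff hσ hσq hq hn, hW]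
      exact ⟨(ζ ^ s) ^ r, by rw [_root_.smul_pow, hBr]⟩
    · intro h1
      obtain ⟨c, hc⟩ := (orderOf_toPSU_dvd_iff hσ hσq hq hn W 1).1 (by rw [h1, orderOf_one])
      rw [pow_one, hW] at hc
      have hs0 : ζ ^ s ≠ 0 := pow_ne_zero _ (hζ.ne_zero hr.ne_zero)
      have hB : B = ((ζ ^ s)⁻¹ * c) • (1 : Matrix (Fin n) (Fin n) F) := by
        rw [← smul_smul, ← hc, inv_smul_smul₀ hs0]
      have hz1 : ζ - 1 ≠ 0 := sub_ne_zero.mpr (hζ.ne_one hr.one_lt)
      have he' : e = ((ζ - 1)⁻¹ * ((ζ ^ s)⁻¹ * c - 1)) • (1 : Matrix (Fin n) (Fin n) F) := by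
        rw [← smul_smul, sub_smul, one_smul, ← hB, add_sub_cancel_left, inv_smul_smul₀ hz1]
      rw [he'] at he he0 he1
      simp only [smul_mul_assoc, one_mul, smul_smul] at he
      have h00 := congrFun (congrFun he 0) 0
      simp only [Matrix.smul_apply, Matrix.one_apply_eq, smul_eq_mul, mul_one] at h00
      rcases eq_or_ne ((ζ - 1)⁻¹ * ((ζ ^ s)⁻¹ * c - 1)) 0 with h0 | h0
      · exact he0 (by rw [h0, zero_smul])
      · exact he1 (by rw [mul_eq_left₀ h0 |>.mp h00, one_smul])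
  · refine Commute.map ?_ _
    refine Subtype.ext (Subtype.ext ?_)
    show _ * ((W : Matrix.SpecialLinearGroup (Fin n) F) : Matrix (Fin n) (Fin n) F) =
      ((W : Matrix.SpecialLinearGroup (Fin n) F) : Matrix (Fin n) (Fin n) F) * _
    rw [hW]
    exact (((Commute.one_right _).add_right (hcomm.smul_right (ζ - 1))).smul_right (ζ ^ s)).eq

/-- The lcm with `r`, from a commuting element of order `r`. -/
theorem exists_lcm_of_commute {G : Type*} [Group G] {g w : G} {r : ℕ} (hr : r.Prime) (hw : orderOf w = r)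
    (hgr : ¬ r ∣ orderOf g) (hc : Commute g w) : ∃ x : G, orderOf x = Nat.lcm (orderOf g) r := by
  have hco : Nat.Coprime (orderOf g) r := (hr.coprime_iff_not_dvd.2 hgr).symm
  exact ⟨g * w, by rw [hc.orderOf_mul_eq_mul_orderOf_of_coprime (hw ▸ hco), hw, hco.lcm_eq_mul]⟩

end Cfsg.Agent.Spectrum
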