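import Cfsg.Agent.Spectrum.SUSinger
import Cfsg.Agent.Spectrum.SUElements

/-!
`ω(PSU³) = ω(PSU³ × Z_r^m)` for a prime `r` dividing `q + 1` but not `n`.
-/

set_option autoImplicit false

namespace Cfsg.Agent.Spectrum

open Polynomial Cfsg.Agent.Classical Matrix

variable {F : Type*} [Field F] [Fintype F] {σ : F →+* F} {n q : ℕ}

set_option maxHeartbeats 1000000 in
theorem psu_dichotomy (p : ℕ) [Fact p.Prime] [CharP F p] {i₀ : ℕ} (hqp : q = p ^ i₀)
    (hF : Fintype.card F = q ^ 2) (hσ : Herm.IsInvol σ) (hσq : ∀ x, σ x = x ^ q)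
    (hq : Nat.card (Herm.fixField σ) = q) (hn : 2 ≤ n) {r : ℕ} (hr : r.Prime) (hrn : ¬ r ∣ n) {ζ : F}
    (hζ : IsPrimitiveRoot ζ r) (hσζ : σ ζ * ζ = 1) {c : Cfsg.PSU n F q}
    (hQ : ∀ A : Cfsg.SU n F q,
      Exceptional (q := q) σ ((A : Matrix.SpecialLinearGroup (Fin n) F) : Matrix (Fin n) (Fin n) F) →
      orderOf (toPSU n F q A) ∣ orderOf c)
    (g : Cfsg.PSU n F q) :
    (∃ x : Cfsg.PSU n F q, orderOf x = Nat.lcm (orderOf g) r) ∨ orderOf g ∣ p ^ Nat.clog p n * orderOf c := by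
  obtain ⟨A, rfl⟩ := QuotientGroup.mk'_surjective _ g
  change (∃ x, orderOf x = Nat.lcm (orderOf (toPSU n F q A)) r) ∨ orderOf (toPSU n F q A) ∣ _
  by_cases hrd : r ∣ orderOf (toPSU n F q A)
  · exact Or.inl ⟨_, (Nat.lcm_eq_left hrd).symm⟩
  set A₀ := ((A : Matrix.SpecialLinearGroup (Fin n) F) : Matrix (Fin n) (Fin n) F) with hA₀
  have hAu : uadj σ A₀ * A₀ = 1 := (mem_SU_iff_adj hσq _).1 A.2
  haveI : NeZero n := ⟨by omega⟩
  rcases unitary_structure (by omega) hσ hAu with ⟨e, hes, he, he0, he1, hc⟩ | ⟨f, a, hfm, hf, hfX, han, hcase⟩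
  · obtain ⟨w, hw, hwc⟩ := exists_commuting_su hσ hσq hq hn hr hrn hζ hσζ A hes he he0 he1 hc
    exact Or.inl (exists_lcm_of_commute hr hw hrd hwc)
  right
  have hp : p.Prime := Fact.out
  set t := Fintype.card F ^ n with ht
  have hnt : n ≤ t := (Nat.lt_pow_self Fintype.one_lt_card).le
  have hpoly : aeval (A₀ ^ t) f = aeval A₀ f ^ t := aeval_pow_card_pow A₀ f n
  have hexc : Exceptional (q := q) σ
      (((A ^ t : Cfsg.SU n F q) : Matrix.SpecialLinearGroup (Fin n) F) : Matrix (Fin n) (Fin n) F) := by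
    rw [coe_pow_su]
    rcases hcase with ⟨hrev, h0⟩ | ⟨e, hce, he, hsum, h0⟩
    · obtain ⟨hodd, hd⟩ := crev_cases hqp hF hσq hfm hf hfX hrev
      refine ⟨f, hfm, hf, Or.inl ⟨hodd, hd, hrev, ?_⟩⟩
      rw [hpoly]
      rw [map_pow] at h0
      exact pow_eq_zero_of_le (han.trans hnt) h0
    · refine ⟨f, hfm, hf, Or.inr ⟨e, hce.pow_left t, he, hsum, ?_⟩⟩
      rw [map_pow] at h0
      rw [hpoly, ← Nat.sub_add_cancel (han.trans hnt), pow_add, mul_assoc, h0, mul_zero]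
  have ho := hQ _ hexc
  set o := orderOf (toPSU n F q (A ^ t)) with hodef
  obtain ⟨k, hk⟩ := (orderOf_toPSU_dvd_iff hσ hσq hq hn (A ^ t) o).1 dvd_rfl
  rw [coe_pow_su, ← hA₀] at hk
  have htp : t = p ^ (i₀ * 2 * n) := by rw [ht, hF, hqp, ← pow_mul, ← pow_mul, mul_assoc]
  have hkt : k ^ t = k := FiniteField.pow_card_pow n k
  haveI : CharP (Matrix (Fin n) (Fin n) F) p := inferInstance
  have hnil : (A₀ ^ o - k • 1) ^ t = 0 := by
    have h1 : (A₀ ^ o) ^ t = k • (1 : Matrix (Fin n) (Fin n) F) := by rw [pow_right_comm]; exact hk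
    have h2 : (k • (1 : Matrix (Fin n) (Fin n) F)) ^ t = k • 1 := by rw [_root_.smul_pow, one_pow, hkt]
    rw [htp] at h1 h2 ⊢
    rw [sub_pow_char_pow_of_commute _ _ ((Commute.one_right _).smul_right k), h1, h2, sub_self]
  have h3 : (A₀ ^ o - k • 1) ^ p ^ Nat.clog p n = 0 := by
    refine pow_eq_zero_of_le (Nat.le_pow_clog hp.one_lt n) ?_
    have := pow_card_eq_zero_of_isNilpotent ⟨t, hnil⟩
    rwa [Fintype.card_fin] at this
  rw [sub_pow_char_pow_of_commute _ _ ((Commute.one_right _).smul_right k), _root_.smul_pow, one_pow, sub_eq_zero,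
    ← pow_mul] at h3
  have h4 : orderOf (toPSU n F q A) ∣ o * p ^ Nat.clog p n :=
    (orderOf_toPSU_dvd_iff hσ hσq hq hn A _).2 ⟨_, h3⟩
  rw [mul_comm o] at h4
  exact h4.trans (Nat.mul_dvd_mul_left _ ho)

theorem main_2511 {C : Type*} [Group C] {p a : ℕ} (hp : p.Prime) (ha : 1 ≤ a) (hqp : q = p ^ a)
    (hF : Fintype.card F = q ^ 2) (hn : 3 ≤ n) {r : ℕ} (hr : r.Prime) (hrq : r ∣ q + 1) (hrn : ¬ r ∣ n)
    (hC : ∀ d : C, d ^ r = 1) :
    Set.range (orderOf : Cfsg.PSU n F q × Cfsg.PSU n F q × Cfsg.PSU n F q × C → ℕ) =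
      Set.range (orderOf : Cfsg.PSU n F q × Cfsg.PSU n F q × Cfsg.PSU n F q → ℕ) ∧
    ((¬ ∃ j : ℕ, n - 1 = p ^ j) →
      Set.range (orderOf : Cfsg.PSU n F q × Cfsg.PSU n F q × C → ℕ) =
      Set.range (orderOf : Cfsg.PSU n F q × Cfsg.PSU n F q → ℕ)) := by
  classical
  haveI : Fact p.Prime := ⟨hp⟩
  haveI : CharP F p := by
    obtain ⟨l, hl⟩ := CharP.exists F
    obtain ⟨b, hlp, hb⟩ := FiniteField.card F l
    have h : l = p := by
      have h1 : l ∣ p ^ (a * 2) := by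
        rw [pow_mul, ← hqp, ← hF, hb]; exact dvd_pow_self l b.ne_zero
      exact (Nat.prime_dvd_prime_iff_eq hlp hp).mp (hlp.dvd_of_dvd_pow h1)
    exact h ▸ hl
  obtain ⟨σ, hσq, hσ, hfix, hq1⟩ := exists_powHom hF
  obtain ⟨ζ, hζ⟩ : ∃ ζ : F, IsPrimitiveRoot ζ r := by
    haveI : Fact r.Prime := ⟨hr⟩
    obtain ⟨u, hu⟩ := exists_prime_orderOf_dvd_card' (G := Fˣ) r (by
      rw [Nat.card_units, Nat.card_eq_fintype_card, hF, show q ^ 2 - 1 = (q + 1) * (q - 1) by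
        rw [← Nat.sq_sub_sq]]
      exact hrq.mul_right _)
    exact ⟨u, by rw [IsPrimitiveRoot.coe_units_iff, ← hu]; exact IsPrimitiveRoot.orderOf u⟩
  have hσζ : σ ζ * ζ = 1 := by
    obtain ⟨k, hk⟩ := hrq
    rw [hσq, ← pow_succ, hk, pow_mul, hζ.pow_eq_one, one_pow]
  obtain ⟨b₀, hb₀⟩ : ∃ b₀ : F, σ b₀ ≠ b₀ := by
    by_contra hall
    push Not at hall
    have h1 : Nat.card (Herm.fixField σ) = Fintype.card F := by
      rw [← Nat.card_eq_fintype_card]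
      exact Nat.card_congr (Equiv.subtypeUnivEquiv (p := fun x => x ∈ Herm.fixField σ) hall)
    rw [hfix, hF] at h1
    nlinarith
  have hn2 : 2 ≤ n := by omega
  obtain ⟨c, hc, hcQ⟩ : ∃ c : Cfsg.PSU n F q, orderOf c ∣ Fintype.card F ^ n - 1 ∧ ∀ A : Cfsg.SU n F q,
      Exceptional (q := q) σ ((A : Matrix.SpecialLinearGroup (Fin n) F) : Matrix (Fin n) (Fin n) F) →
      orderOf (toPSU n F q A) ∣ orderOf c := by
    rcases Nat.even_or_odd n with ⟨j, hj⟩ | hodd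
    · exact exists_singer_even p hqp hF hσ hσq hfix hn2 (j := j) (by omega)
    · exact exists_singer_odd p hqp hF hσ hσq hfix hn2 hodd
  have hPQ : Nat.Coprime (p ^ Nat.clog p n) (orderOf c) := by
    refine Nat.Coprime.pow_left _ (hp.coprime_iff_not_dvd.mpr fun h => ?_)
    have h1 : p ∣ Fintype.card F ^ n := by
      rw [hF, hqp, ← pow_mul, ← pow_mul]
      exact dvd_pow_self p (Nat.mul_ne_zero (by omega) (by omega))
    have h3 : p ∣ 1 := by
      have := Nat.dvd_sub h1 (h.trans hc)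
      rwa [Nat.sub_sub_self (Nat.one_le_pow _ _ Fintype.card_pos)] at this
    exact hp.one_lt.ne' (Nat.dvd_one.mp h3)
  have hrp : r ≠ p := by
    rintro rfl
    have h1 : r ∣ q := hqp ▸ dvd_pow_self r (by omega)
    exact hr.one_lt.ne' (Nat.dvd_one.mp ((Nat.dvd_add_right h1).1 hrq))
  have hdich := psu_dichotomy (F := F) (n := n) p hqp hF hσ hσq hfix hn2 hr hrn hζ hσζ hcQ
  obtain ⟨M, hM, hMd, hMo⟩ := exists_unipotent_su p hσ hb₀ (m := n) (by omega)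
  obtain ⟨U, hU⟩ := exists_su hσq hM hMd
  have hUo : orderOf (toPSU n F q U) = p ^ Nat.clog p n :=
    orderOf_toPSU_of_unipotent p hσ hσq hfix hn2 U n (by rw [hU]; exact hMo)
  obtain ⟨m, rfl⟩ : ∃ m, n = m + 1 := ⟨n - 1, by omega⟩
  obtain ⟨M₁, hM₁, hM₁d, hM₁o⟩ := exists_unipotent_su p hσ hb₀ (m := m) (by omega)
  obtain ⟨M', e, hM', hM'd, hpow, hes, he, he0, he1, hce⟩ := exists_block_su hσ (by omega) hM₁ hM₁d
  obtain ⟨V, hV⟩ := exists_su hσq hM' hM'd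
  have hVo : orderOf (toPSU (m + 1) F q V) = p ^ Nat.clog p m :=
    orderOf_toPSU_of_unipotent p hσ hσq hfix hn2 V m fun k => by rw [hV, hpow, hM₁o]
  obtain ⟨w, hw, hwc⟩ := exists_commuting_su hσ hσq hfix hn2 hr hrn hζ hσζ V hes he he0 he1 (hV ▸ hce)
  refine ⟨range_orderOf_triple hr hC hPQ (dvd_of_eq hUo.symm) dvd_rfl hw hdich, fun hj => ?_⟩
  have hclog : Nat.clog p (m + 1) = Nat.clog p m := by
    refine le_antisymm ((Nat.clog_le_iff_le_pow hp.one_lt).mpr ?_) (Nat.clog_mono_right p (Nat.le_succ m))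
    have h1 := Nat.le_pow_clog hp.one_lt m
    have h2 : p ^ Nat.clog p m ≠ m := fun h => hj ⟨_, by rw [h]; omega⟩
    omega
  obtain ⟨x, hx⟩ := exists_lcm_of_commute hr hw
    (fun h => hrp ((Nat.prime_dvd_prime_iff_eq hr hp).1 (hr.dvd_of_dvd_pow (hVo ▸ h)))) hwc
  exact range_orderOf_pair hr hC hPQ (u := x) (by rw [hx, hVo, hclog]) dvd_rfl hdich

end Cfsg.Agent.Spectrum
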