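import Cfsg.Agent.Spectrum.PSp

/-!
`ω(PSp³) = ω(PSp³ × Z_2^m)` in odd characteristic.
-/

set_option autoImplicit false

namespace Cfsg.Agent.Spectrum

open Polynomial Cfsg.Agent.Classical

variable {F : Type*} [Field F] [Fintype F] {n : ℕ}

theorem clog_mono_bound (p : ℕ) [Fact p.Prime] {a b : ℕ} (h : a ≤ b) : a ≤ p ^ Nat.clog p b :=
  h.trans (Nat.le_pow_clog (Fact.out : p.Prime).one_lt b)

/-- The odd one of the two halves `(q ^ n ± 1) / 2`. -/
def oddHalf (q n : ℕ) : ℕ := if Odd ((q ^ n + 1) / 2) then (q ^ n + 1) / 2 else (q ^ n - 1) / 2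

theorem half_eq {q : ℕ} (hq : Odd q) (k : ℕ) :
    2 * ((q ^ k + 1) / 2) = q ^ k + 1 ∧ 2 * ((q ^ k - 1) / 2) = q ^ k - 1 ∧
      (q ^ k + 1) / 2 = (q ^ k - 1) / 2 + 1 := by
  obtain ⟨j, hj⟩ := hq.pow (n := k)
  omega

theorem psp_dichotomy (p : ℕ) [Fact p.Prime] [CharP F p] (hp : p ≠ 2) (hn : 2 ≤ n) (g : Cfsg.PSp n F) :
    (∃ x : Cfsg.PSp n F, orderOf x = Nat.lcm (orderOf g) 2) ∨
      orderOf g ∣ p ^ Nat.clog p (2 * n) * oddHalf (Fintype.card F) n := by
  have h2 : (2 : F) ≠ 0 := Ring.two_ne_zero (by rwa [ringChar.eq F p])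
  have hn1 : 1 ≤ n := by omega
  have hq : Odd (Fintype.card F) :=
    Nat.odd_iff.2 (FiniteField.odd_card_of_char_ne_two (by rwa [ringChar.eq F p]))
  have hp' : p.Prime := Fact.out
  have hpo : Odd p := hp'.odd_of_ne_two hp
  obtain ⟨A, rfl⟩ := QuotientGroup.mk'_surjective _ g
  set π := QuotientGroup.mk' (Subgroup.center (Matrix.symplecticGroup (Fin n) F))
  have hfrom : ∀ {y : Cfsg.PSp n F}, Nat.lcm (orderOf (π A)) 2 ∣ orderOf y →
      ∃ x : Cfsg.PSp n F, orderOf x = Nat.lcm (orderOf (π A)) 2 := fun {y} h =>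
    exists_orderOf_eq_of_dvd (orderOf_pos y).ne' h
  have hnilp : ∀ {f : F[X]} {a h : ℕ} {c : F}, aeval A.1 (f ^ a) = 0 → f ∣ X ^ h - C c →
      (A.1 ^ h - c • 1) ^ a = 0 := fun {f a h c} h0 hd => by
    have := aeval_eq_zero_of_dvd_aeval_eq_zero (pow_dvd_pow_of_dvd hd a) h0
    rwa [map_pow, map_sub, map_pow, aeval_X, aeval_C, Algebra.algebraMap_eq_smul_one] at this
  -- a Singer block next to a unipotent block
  have hbig : ∀ {l N h a : ℕ}, 1 ≤ l → l < n → a * l ≤ n → HasIso F l N → Even N → h ∣ N → Nat.Coprime h p →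
      (∀ e, a ≤ p ^ e → orderOf (π A) ∣ h * p ^ e) →
      ∃ x : Cfsg.PSp n F, orderOf x = Nat.lcm (orderOf (π A)) 2 := by
    intro l N h a hl hln hal hiso hN hhN hcop hd
    obtain ⟨b, rfl⟩ : ∃ b, n = l + b := ⟨n - l, by omega⟩
    obtain ⟨x, hx⟩ := exists_psp_lcm p h2 hl (by omega : 1 ≤ b) hiso
    refine hfrom (y := x) ?_
    rw [hx]
    refine Nat.lcm_dvd ((hd (Nat.clog p (2 * b)) (clog_mono_bound p ?_)).trans ?_)
      (hN.two_dvd.trans (Nat.dvd_lcm_left _ _))
    · nlinarith [show 1 ≤ b by omega]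
    · rw [← (hcop.pow_right _).lcm_eq_mul]
      exact Nat.lcm_dvd (hhN.trans (Nat.dvd_lcm_left _ _)) (Nat.dvd_lcm_right _ _)
  have hcop : ∀ {k : ℕ}, 1 ≤ k → Nat.Coprime ((Fintype.card F ^ k + 1) / 2) p ∧
      Nat.Coprime ((Fintype.card F ^ k - 1) / 2) p := fun {k} hk => by
    obtain ⟨e1, e2, -⟩ := half_eq hq k
    have hpq : p ∣ Fintype.card F ^ k := by
      obtain ⟨a, -, ha⟩ := FiniteField.card F p
      rw [ha, ← pow_mul]; exact dvd_pow_self p (Nat.mul_ne_zero a.ne_zero (by omega))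
    constructor <;> refine Nat.Coprime.symm (hp'.coprime_iff_not_dvd.2 fun h => hp'.one_lt.ne' ?_)
    · have h1 : p ∣ Fintype.card F ^ k + 1 := e1 ▸ h.mul_left 2
      exact Nat.dvd_one.1 ((Nat.dvd_add_right hpq).1 h1)
    · have h1 : p ∣ Fintype.card F ^ k - 1 := e2 ▸ h.mul_left 2
      have := Nat.dvd_sub hpq h1
      rw [Nat.sub_sub_self (Nat.one_le_pow _ _ Fintype.card_pos)] at this
      exact Nat.dvd_one.1 this
  rcases sp_structure hn1 h2 A with ⟨w, hwA, hww, hwc⟩ | ⟨f, a, hfm, hf, hfX, hcase⟩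
  · left
    by_cases hev : 2 ∣ orderOf (π A)
    · exact ⟨π A, (Nat.lcm_eq_left hev).symm⟩
    · haveI : Fact (Nat.Prime 2) := ⟨Nat.prime_two⟩
      have hw : orderOf (π w) = 2 := orderOf_eq_prime (by rw [← map_pow, pow_two, hww, map_one])
        fun h => hwc ((QuotientGroup.eq_one_iff w).1 h)
      refine ⟨π A * π w, ?_⟩
      have hco : Nat.Coprime (orderOf (π A)) (orderOf (π w)) := by
        rw [hw]; exact (Nat.prime_two.coprime_iff_not_dvd.2 hev).symm
      have hC : Commute (π A) (π w) := by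
        show π A * π w = π w * π A
        rw [← map_mul, ← map_mul, hwA]
      rw [hC.orderOf_mul_eq_mul_orderOf_of_coprime hco, hw, Nat.Coprime.lcm_eq_mul (hw ▸ hco)]
  rcases hcase with ⟨hdeg, hrev, h0⟩ | ⟨hdeg, e, hce, he, h0⟩
  · rcases selfrecip_cases hfm hf hfX hrev with ⟨hk, c, hc, hd⟩ | ⟨l, hl, hk, hd⟩
    · right
      rw [← pow_one (X : F[X])] at hd
      have := orderOf_dvd_of_nilp hn1 p h2 A hc (hnilp h0 hd)
        (clog_mono_bound p (show a ≤ 2 * n by rwa [hk, mul_one] at hdeg))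
      rw [one_mul] at this
      exact this.trans (dvd_mul_right _ _)
    · obtain ⟨e1, -, -⟩ := half_eq hq l
      rw [← e1] at hd
      obtain ⟨c, hc, hd'⟩ := exists_sign hf hd
      rw [hk] at hdeg
      have hd : ∀ e, a ≤ p ^ e → orderOf (π A) ∣ (Fintype.card F ^ l + 1) / 2 * p ^ e := fun e he =>
        orderOf_dvd_of_nilp hn1 p h2 A hc (hnilp h0 hd') he
      have ha : a ≠ 0 := fun h => by
        rw [h, pow_zero, map_one] at h0
        haveI : Nonempty (Fin n ⊕ Fin n) := ⟨Sum.inl ⟨0, hn1⟩⟩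
        exact one_ne_zero h0
      rcases lt_or_ge l n with hln | hln
      · exact Or.inl (hbig hl hln (by nlinarith) (hasIso_normOne p h2 hl) (by
          rw [← e1]; exact even_two_mul _) ⟨2, by omega⟩ (hcop hl).1 hd)
      · have hla : a = 1 ∧ l = n := by
          have h1 : 1 ≤ a := Nat.one_le_iff_ne_zero.2 ha
          constructor <;> nlinarith
        obtain ⟨rfl, rfl⟩ := hla
        have h1 := hd 0 (by simp)
        rw [pow_zero, mul_one] at h1
        by_cases hev : Odd ((Fintype.card F ^ l + 1) / 2)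
        · right
          rw [oddHalf, if_pos hev]
          exact h1.trans (dvd_mul_left _ _)
        · left
          obtain ⟨x, hx⟩ := exists_psp_half (n := l) hn1 (h := (Fintype.card F ^ l + 1) / 2)
            (by rw [e1]; exact hasIso_normOne p h2 hl)
          exact hfrom (y := x) (Nat.lcm_dvd (h1.trans hx) ((Nat.not_odd_iff_even.1 hev).two_dvd.trans hx))
  · haveI := Fact.mk hf
    obtain ⟨-, e2, e3⟩ := half_eq hq f.natDegree
    have hdX : f ∣ X ^ (2 * ((Fintype.card F ^ f.natDegree - 1) / 2)) - 1 := by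
      rw [e2]; exact dvd_X_pow_sub_one_of_irreducible hf hfX dvd_rfl
    obtain ⟨c, hc, hd'⟩ := exists_sign hf hdX
    set h := (Fintype.card F ^ f.natDegree - 1) / 2
    -- the other half by adjointness
    have hz : (A.1 ^ h - c • 1) ^ a = 0 := by
      have h1 : (A.1 ^ h - c • 1) ^ a * (1 - e) = 0 := by
        obtain ⟨q, hq⟩ := pow_dvd_pow_of_dvd hd' a
        have h' : aeval A.1 ((X ^ h - C c) ^ a) * (1 - e) = 0 := by
          rw [hq, mul_comm (f ^ a), map_mul, mul_assoc, h0, mul_zero]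
        rwa [map_pow, map_sub, map_pow, aeval_X, aeval_C, Algebra.algebraMap_eq_smul_one] at h'
      set N := (A.1 ^ h - c • 1) ^ a with hN
      have hNe : Commute N e := (((hce.pow_left h).sub_left ((Commute.one_left e).smul_left c)).pow_left a)
      have h1' : e * (((A⁻¹).1 ^ h - c • 1) ^ a) = 0 := by
        have hh := congrArg adj h1
        rw [adj_mul, adj_zero] at hh
        have ea : adj N = ((A⁻¹).1 ^ h - c • 1) ^ a := by
          rw [hN, show (A.1 ^ h - c • 1) ^ a = aeval A.1 ((X ^ h - C c) ^ a) by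
            rw [map_pow, map_sub, map_pow, aeval_X, aeval_C, Algebra.algebraMap_eq_smul_one], adj_aeval,
            map_pow, map_sub, map_pow, aeval_X, aeval_C, Algebra.algebraMap_eq_smul_one]
        rw [ea, adj_sub, adj_one, show 1 - adj e = e from (eq_sub_of_add_eq he).symm] at hh
        exact hh
      have hcomm : (A⁻¹).1 ^ h * A.1 ^ h = 1 := by
        rw [← SubmonoidClass.coe_pow, ← SubmonoidClass.coe_pow, ← Submonoid.coe_mul, inv_pow, inv_mul_cancel]; rfl
      have hcomm' : A.1 ^ h * (A⁻¹).1 ^ h = 1 := by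
        rw [← SubmonoidClass.coe_pow, ← SubmonoidClass.coe_pow, ← Submonoid.coe_mul, inv_pow, mul_inv_cancel]; rfl
      have hflip : ((A⁻¹).1 ^ h - c • 1) ^ a * ((-c) • A.1 ^ h) ^ a = N := by
        have hC : Commute ((A⁻¹).1 ^ h - c • 1) ((-c) • A.1 ^ h) :=
          (Commute.sub_left (show Commute ((A⁻¹).1 ^ h) (A.1 ^ h) from hcomm.trans hcomm'.symm)
            ((Commute.one_left _).smul_left c)).smul_right _
        rw [← hC.mul_pow, hN]
        congr 1
        rw [sub_mul, mul_smul_comm, hcomm, smul_mul_smul_comm, one_mul, mul_neg, hc]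
        module
      have h2' : e * N = 0 := by rw [← hflip, ← mul_assoc, h1', zero_mul]
      have h4 : N * e = 0 := by rw [(hNe : Commute N e).eq, h2']
      calc N = N * e + N * (1 - e) := by rw [← mul_add, add_sub_cancel, mul_one]
        _ = 0 := by rw [h4, h1, add_zero]
    have hd : ∀ i, a ≤ p ^ i → orderOf (π A) ∣ h * p ^ i := fun i hi => orderOf_dvd_of_nilp hn1 p h2 A hc hz hi
    have ha : a ≠ 0 := fun ha' => by
      rw [ha', pow_zero] at hz
      haveI : Nonempty (Fin n ⊕ Fin n) := ⟨Sum.inl ⟨0, hn1⟩⟩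
      exact one_ne_zero hz
    have hk := hf.natDegree_pos
    rcases lt_or_ge f.natDegree n with hkn | hkn
    · exact Or.inl (hbig hk hkn hdeg (hasIso_split p hk) (by
        rw [← e2]; exact even_two_mul _) ⟨2, by omega⟩ (hcop hk).2 hd)
    · have hka : a = 1 ∧ f.natDegree = n := by
        have h1 : 1 ≤ a := Nat.one_le_iff_ne_zero.2 ha
        constructor <;> nlinarith
      obtain ⟨rfl, hkn'⟩ := hka
      have h1 := hd 0 (by simp)
      rw [pow_zero, mul_one] at h1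
      by_cases hev : Odd h
      · right
        have h5 : ¬ Odd ((Fintype.card F ^ n + 1) / 2) := by
          rw [← hkn', e3]; exact Nat.not_odd_iff_even.2 hev.add_one
        rw [oddHalf, if_neg h5, show (Fintype.card F ^ n - 1) / 2 = h by rw [← hkn']]
        exact h1.trans (dvd_mul_left _ _)
      · left
        obtain ⟨x, hx⟩ := exists_psp_half (n := n) hn1 (h := h) (by rw [e2, ← hkn']; exact hasIso_split p hk)
        exact hfrom (y := x) (Nat.lcm_dvd (h1.trans hx) ((Nat.not_odd_iff_even.1 hev).two_dvd.trans hx))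

theorem main_2512 {C : Type*} [Group C] {p a : ℕ} (hp : p.Prime) (ha : 1 ≤ a) (hF : Fintype.card F = p ^ a)
    (hodd : Odd (Fintype.card F)) (hn : 2 ≤ n) (hC : ∀ d : C, d ^ 2 = 1) :
    Set.range (orderOf : Cfsg.PSp n F × Cfsg.PSp n F × Cfsg.PSp n F × C → ℕ) =
      Set.range (orderOf : Cfsg.PSp n F × Cfsg.PSp n F × Cfsg.PSp n F → ℕ) ∧
    ((¬ ∃ j : ℕ, 2 * n - 1 = p ^ j) →
      Set.range (orderOf : Cfsg.PSp n F × Cfsg.PSp n F × C → ℕ) =
      Set.range (orderOf : Cfsg.PSp n F × Cfsg.PSp n F → ℕ)) := by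
  classical
  haveI : Fact p.Prime := ⟨hp⟩
  haveI : CharP F p := by
    obtain ⟨q, hq⟩ := CharP.exists F
    obtain ⟨b, hqp, hb⟩ := FiniteField.card F q
    have h : q = p := by
      have h1 : q ∣ p ^ a := hF ▸ hb ▸ dvd_pow_self q b.ne_zero
      exact (Nat.prime_dvd_prime_iff_eq hqp hp).mp (hqp.dvd_of_dvd_pow h1)
    exact h ▸ hq
  have hp2 : p ≠ 2 := fun h => by
    rw [hF, h, Nat.odd_pow_iff (by omega)] at hodd
    exact absurd hodd (by decide)
  have h2 : (2 : F) ≠ 0 := Ring.two_ne_zero (by rwa [ringChar.eq F p])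
  have hn1 : 1 ≤ n := by omega
  obtain ⟨c, hc⟩ : ∃ c : Cfsg.PSp n F, oddHalf (Fintype.card F) n ∣ orderOf c := by
    obtain ⟨e1, e2, -⟩ := half_eq hodd n
    rw [oddHalf]
    split_ifs
    · exact exists_psp_half hn1 (by rw [e1]; exact hasIso_normOne p h2 hn1)
    · exact exists_psp_half hn1 (by rw [e2]; exact hasIso_split p hn1)
  obtain ⟨u, hu⟩ : ∃ u : Cfsg.PSp n F, p ^ Nat.clog p (2 * n) ∣ orderOf u := by
    obtain ⟨g, hg⟩ := hasIso_unipotent (F := F) p h2 hn1
    obtain ⟨φ, -, hφ⟩ :=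
      exists_psp_of_iso (V := Fin n ⊕ Fin n → F) hn1 finrank_symp sympB_isAlt sympB_nondeg
    refine ⟨φ g, ?_⟩
    have h := orderOf_dvd_of_pow_eq_one (scalarPow_one_or_neg ((hφ g (orderOf (φ g))).1 dvd_rfl))
    rw [hg] at h
    exact (Nat.Coprime.pow_left _ ((Nat.coprime_primes hp Nat.prime_two).2 hp2)).dvd_of_dvd_mul_left h
  obtain ⟨b, rfl⟩ : ∃ b, n = 1 + b := ⟨n - 1, by omega⟩
  obtain ⟨x, hx⟩ := exists_psp_lcm p h2 le_rfl (by omega : 1 ≤ b) (hasIso_two (F := F) h2 le_rfl)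
  obtain ⟨w, hw⟩ := exists_orderOf_eq_of_dvd (orderOf_pos x).ne' (hx ▸ Nat.dvd_lcm_left 2 _)
  have hPQ : Nat.Coprime (p ^ Nat.clog p (2 * (1 + b))) (oddHalf (Fintype.card F) (1 + b)) := by
    refine Nat.Coprime.pow_left _ (hp.coprime_iff_not_dvd.2 fun h => hp.one_lt.ne' ?_)
    obtain ⟨e1, e2, -⟩ := half_eq hodd (1 + b)
    have hpq : p ∣ Fintype.card F ^ (1 + b) := by
      rw [hF, ← pow_mul]; exact dvd_pow_self p (Nat.mul_ne_zero (by omega) (by omega))
    rw [oddHalf] at h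
    split_ifs at h
    · exact Nat.dvd_one.1 ((Nat.dvd_add_right hpq).1 (e1 ▸ h.mul_left 2))
    · have := Nat.dvd_sub hpq (e2 ▸ h.mul_left 2)
      rw [Nat.sub_sub_self (Nat.one_le_pow _ _ Fintype.card_pos)] at this
      exact Nat.dvd_one.1 this
  have hd := psp_dichotomy (F := F) p hp2 hn
  refine ⟨range_orderOf_triple Nat.prime_two hC hPQ hu hc hw hd, fun hj => ?_⟩
  have hclog : Nat.clog p (2 * (1 + b)) = Nat.clog p (2 * b) := by
    refine le_antisymm ((Nat.clog_le_iff_le_pow hp.one_lt).mpr ?_) (Nat.clog_mono_right p (by omega))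
    have h1 := Nat.le_pow_clog hp.one_lt (2 * b)
    have h3 : p ^ Nat.clog p (2 * b) ≠ 2 * b + 1 := fun h => hj ⟨_, by rw [h]; omega⟩
    have h4 : Odd (p ^ Nat.clog p (2 * b)) := (hp.odd_of_ne_two hp2).pow
    obtain ⟨i, hi⟩ := h4
    omega
  exact range_orderOf_pair Nat.prime_two hC hPQ (u := x) (by rw [hx, hclog, Nat.lcm_comm]) hc hd

end Cfsg.Agent.Spectrum
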