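import Mathlib

/-!
Element orders of general linear groups over finite fields.
-/

set_option autoImplicit false

namespace Cfsg.Agent.Spectrum

open Polynomial Matrix

variable {F : Type*} [Field F]

/-- If every irreducible factor of `P` divides `H`, then `P` divides `H ^ natDegree P`. -/
theorem dvd_pow_natDegree_of_forall_irreducible {P H : F[X]} (hP : P ≠ 0)
    (h : ∀ f : F[X], Irreducible f → f ∣ P → f ∣ H) : P ∣ H ^ P.natDegree := by
  induction P using WfDvdMonoid.induction_on_irreducible with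
  | zero => exact absurd rfl hP
  | unit u hu => exact hu.dvd
  | mul a i ha hi ih =>
    rw [natDegree_mul hi.ne_zero ha, pow_add]
    refine mul_dvd_mul ?_ (ih ha fun f hf hfa => h f hf (hfa.mul_left i))
    exact (h i hi (dvd_mul_right i a)).trans (dvd_pow_self H hi.natDegree_pos.ne')

theorem dvd_X_pow_sub_one_of_irreducible [Fintype F] {f : F[X]} (hf : Irreducible f) (hX : ¬ f ∣ X)
    {N : ℕ} (hN : Fintype.card F ^ f.natDegree - 1 ∣ N) : f ∣ X ^ N - 1 := by
  have hq : 1 ≤ Fintype.card F ^ f.natDegree := Nat.one_le_pow _ _ Fintype.card_pos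
  have h1 : f ∣ X ^ (Nat.card F) ^ f.natDegree - X :=
    hf.natDegree_dvd_iff_dvd_X_pow_card_pow_sub_X.mp dvd_rfl
  rw [Nat.card_eq_fintype_card] at h1
  have h2 : (X : F[X]) ^ Fintype.card F ^ f.natDegree - X
      = X * (X ^ (Fintype.card F ^ f.natDegree - 1) - 1) := by
    rw [mul_sub, mul_one, ← pow_succ', Nat.sub_add_cancel hq]
  rw [h2] at h1
  rcases hf.prime.dvd_or_dvd h1 with h3 | h3
  · exact absurd h3 hX
  · obtain ⟨m, rfl⟩ := hN
    refine h3.trans ?_
    rw [pow_mul]
    simpa using sub_dvd_pow_sub_pow ((X : F[X]) ^ (Fintype.card F ^ f.natDegree - 1)) 1 m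

/-- An invertible matrix over a field with `q` elements of characteristic `p` is killed by `N * p ^ s`
as soon as `q ^ i - 1 ∣ N` for `1 ≤ i ≤ n` and `n ≤ p ^ s`. -/
theorem GL_pow_eq_one [Fintype F] (p : ℕ) [Fact p.Prime] [CharP F p] {ι : Type*} [Fintype ι] [DecidableEq ι]
    (g : GL ι F) (N s : ℕ) (hN : ∀ i, 1 ≤ i → i ≤ Fintype.card ι → Fintype.card F ^ i - 1 ∣ N)
    (hs : Fintype.card ι ≤ p ^ s) : g ^ (N * p ^ s) = 1 := by
  set A : Matrix ι ι F := (g : Matrix ι ι F) with hA
  have hP : A.charpoly ≠ 0 := A.charpoly_monic.ne_zero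
  have hdet : A.det ≠ 0 := by
    simpa [hA] using ((Matrix.GeneralLinearGroup.det g).ne_zero)
  have h : A.charpoly ∣ (X ^ N - 1) ^ A.charpoly.natDegree := by
    refine dvd_pow_natDegree_of_forall_irreducible hP fun f hf hfP => ?_
    refine dvd_X_pow_sub_one_of_irreducible hf (fun hfX => ?_) (hN _ hf.natDegree_pos ?_)
    · have hassoc : Associated f X := (hf.associated_of_dvd irreducible_X hfX)
      have hXP : (X : F[X]) ∣ A.charpoly := hassoc.dvd_iff_dvd_left.mp hfP
      rw [X_dvd_iff] at hXP
      apply hdet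
      rw [Matrix.det_eq_sign_charpoly_coeff, hXP, mul_zero]
    · rw [← A.charpoly_natDegree_eq_dim]
      exact natDegree_le_of_dvd hfP hP
  rw [A.charpoly_natDegree_eq_dim] at h
  have h' : A.charpoly ∣ X ^ (N * p ^ s) - 1 := by
    refine h.trans ((pow_dvd_pow _ hs).trans ?_)
    rw [sub_pow_char_pow, one_pow, ← pow_mul]
  obtain ⟨c, hc⟩ := h'
  have := congrArg (aeval A) hc
  rw [map_mul, Matrix.aeval_self_charpoly, zero_mul, map_sub, map_pow, aeval_X, map_one, sub_eq_zero] at this
  exact Units.ext (by simpa [hA] using this)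

/-- Block-diagonal embedding. -/
noncomputable def blockHom {a b : ℕ} : GL (Fin a) F × GL (Fin b) F →* GL (Fin (a + b)) F :=
  Units.map
      { toFun := fun x : Matrix (Fin a) (Fin a) F × Matrix (Fin b) (Fin b) F =>
          Matrix.reindex finSumFinEquiv finSumFinEquiv (Matrix.fromBlocks x.1 0 0 x.2)
        map_one' := by simp
        map_mul' := fun x y => by
          simp [Matrix.fromBlocks_multiply, Matrix.submatrix_mul_equiv] }
    |>.comp MulEquiv.prodUnits.symm.toMonoidHom

theorem blockHom_val {a b : ℕ} (x : GL (Fin a) F × GL (Fin b) F) :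
    ((blockHom x : GL (Fin (a + b)) F) : Matrix (Fin (a + b)) (Fin (a + b)) F) =
      Matrix.reindex finSumFinEquiv finSumFinEquiv
        (Matrix.fromBlocks (x.1 : Matrix (Fin a) (Fin a) F) 0 0 (x.2 : Matrix (Fin b) (Fin b) F)) := rfl

theorem blockHom_injective {a b : ℕ} : Function.Injective (blockHom : GL (Fin a) F × GL (Fin b) F → _) := by
  intro x y h
  have h' := congrArg Units.val h
  rw [blockHom_val, blockHom_val, (Matrix.reindex _ _).injective.eq_iff, Matrix.fromBlocks_inj] at h'
  exact Prod.ext (Units.ext h'.1) (Units.ext h'.2.2.2)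

theorem blockHom_det {a b : ℕ} (x : GL (Fin a) F × GL (Fin b) F) :
    ((blockHom x : GL (Fin (a + b)) F) : Matrix (Fin (a + b)) (Fin (a + b)) F).det =
      (x.1 : Matrix (Fin a) (Fin a) F).det * (x.2 : Matrix (Fin b) (Fin b) F).det := by
  rw [blockHom_val, Matrix.det_reindex_self, Matrix.det_fromBlocks_zero₁₂]

/-- An element of `GL_a` gives one of the same order in `GL_n` for `a ≤ n`, with the same determinant. -/
theorem exists_GL_of_le {a n : ℕ} (han : a ≤ n) (g : GL (Fin a) F) :
    ∃ h : GL (Fin n) F, orderOf h = orderOf g ∧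
      (h : Matrix (Fin n) (Fin n) F).det = (g : Matrix (Fin a) (Fin a) F).det := by
  obtain ⟨b, rfl⟩ := Nat.exists_eq_add_of_le han
  refine ⟨blockHom (g, 1), ?_, by rw [blockHom_det]; simp⟩
  rw [orderOf_injective _ blockHom_injective, Prod.orderOf]
  simp

/-- There is an element of order `q ^ i - 1` in `GL_i` over a field with `q` elements. -/
theorem exists_orderOf_card_pow_sub_one [Fintype F] {i : ℕ} (hi : i ≠ 0) :
    ∃ g : GL (Fin i) F, orderOf g = Fintype.card F ^ i - 1 := by
  obtain ⟨p, hp⟩ := CharP.exists F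
  haveI : Fact p.Prime := ⟨CharP.char_is_prime F p⟩
  haveI : NeZero i := ⟨hi⟩
  let E := FiniteField.Extension F p i
  haveI : Fintype E := Fintype.ofFinite E
  let b : Module.Basis (Fin i) F E := Module.finBasisOfFinrankEq F E (FiniteField.finrank_extension F p i)
  obtain ⟨c, hc⟩ := IsCyclic.exists_ofOrder_eq_natCard (α := Eˣ)
  refine ⟨Units.map (Algebra.leftMulMatrix b).toRingHom.toMonoidHom c, ?_⟩
  rw [orderOf_injective _ (Units.map_injective (Algebra.leftMulMatrix_injective b)), hc, Nat.card_units,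
    FiniteField.natCard_extension, Nat.card_eq_fintype_card]

/-- The lower shift matrix. -/
def shiftMatrix (n : ℕ) (F : Type*) [Field F] : Matrix (Fin n) (Fin n) F :=
  Matrix.of fun i j => if (i : ℕ) = j + 1 then 1 else 0

theorem shiftMatrix_pow (n k : ℕ) :
    shiftMatrix n F ^ k = Matrix.of fun i j : Fin n => if (i : ℕ) = j + k then 1 else 0 := by
  induction k with
  | zero => ext i j; simp [Matrix.one_apply, Fin.ext_iff]
  | succ k ih =>
    ext i j
    rw [pow_succ, ih, Matrix.mul_apply]
    simp only [Matrix.of_apply, shiftMatrix]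
    by_cases hj : (j : ℕ) + 1 < n
    · rw [Finset.sum_eq_single (⟨j + 1, hj⟩ : Fin n)]
      · simp [add_comm, add_left_comm]
      · intro l _ hl
        rw [if_neg (fun he : (l : ℕ) = j + 1 => hl (Fin.ext he)), mul_zero]
      · simp
    · rw [Finset.sum_eq_zero, if_neg]
      · have := i.isLt; omega
      · intro l _
        rw [if_neg (show ¬ (l : ℕ) = j + 1 by have := l.isLt; omega), mul_zero]

/-- There is an element of determinant one and order `p ^ ⌈log_p n⌉` in `GL_n`. -/
theorem exists_unipotent_orderOf (p : ℕ) [Fact p.Prime] [CharP F p] (n : ℕ) (hn : 2 ≤ n) :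
    ∃ u : GL (Fin n) F, orderOf u = p ^ Nat.clog p n ∧ (u : Matrix (Fin n) (Fin n) F).det = 1 := by
  have hp : 1 < p := (Fact.out : p.Prime).one_lt
  haveI : NeZero n := ⟨by omega⟩
  have hdet : (1 + shiftMatrix n F).det = 1 := by
    rw [Matrix.det_of_lowerTriangular]
    · refine Finset.prod_eq_one fun i _ => ?_
      simp [shiftMatrix]
    · intro i j hij
      have : (i : ℕ) < j := hij
      simp only [Matrix.add_apply, shiftMatrix, Matrix.of_apply]
      rw [Matrix.one_apply_ne (fun he : i = j => by rw [he] at this; omega), if_neg (by omega), add_zero]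
  have hu : IsUnit (1 + shiftMatrix n F) := by
    rw [Matrix.isUnit_iff_isUnit_det, hdet]; exact isUnit_one
  refine ⟨hu.unit, ?_, hdet⟩
  rw [← orderOf_units, IsUnit.unit_spec]
  obtain ⟨m, hm⟩ := Nat.exists_eq_succ_of_ne_zero (Nat.clog_pos hp hn).ne'
  haveI : CharP (Matrix (Fin n) (Fin n) F) p := inferInstance
  have key : ∀ k, (1 + shiftMatrix n F) ^ p ^ k = 1 + shiftMatrix n F ^ p ^ k := fun k => by
    rw [add_pow_char_pow_of_commute _ _ (Commute.one_left _), one_pow]
  rw [hm]
  refine orderOf_eq_prime_pow ?_ ?_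
  · rw [key, add_eq_left]
    intro h
    have hlt : p ^ m < n := by
      have := Nat.pow_pred_clog_lt_self hp hn
      simpa [hm] using this
    have := congrFun (congrFun h ⟨p ^ m, hlt⟩) ⟨0, by omega⟩
    simp [shiftMatrix_pow] at this
  · rw [key, add_eq_left, shiftMatrix_pow]
    ext i j
    have : n ≤ p ^ (m + 1) := by
      have := Nat.le_pow_clog hp n
      rwa [hm] at this
    have := i.isLt
    simp only [Matrix.of_apply, Matrix.zero_apply, ite_eq_right_iff, one_ne_zero]
    omega

end Cfsg.Agent.Spectrum
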