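import Mathlib

/-! Solvable Frobenius groups with prescribed element orders. -/

set_option autoImplicit false

namespace Cfsg.Agent.Spectrum.FrobAffine

open Polynomial

section Ring

variable {R : Type*} [CommRing R] (U : Subgroup Rˣ)

/-- Multiplication by units on the additive group. -/
def act : U →* MulAut (Multiplicative R) where
  toFun u :=
    { toFun := fun r => Multiplicative.ofAdd (((u : Rˣ) : R) * r.toAdd)
      invFun := fun r => Multiplicative.ofAdd ((((u : Rˣ)⁻¹ : Rˣ) : R) * r.toAdd)
      left_inv := fun r => by simp [← mul_assoc]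
      right_inv := fun r => by simp [← mul_assoc]
      map_mul' := fun r s => by
        apply Multiplicative.toAdd.injective
        simp [mul_add] }
  map_one' := by
    ext r
    simp
  map_mul' u v := by
    ext r
    simp [mul_assoc]

theorem act_apply (u : U) (r : Multiplicative R) :
    act U u r = Multiplicative.ofAdd (((u : Rˣ) : R) * r.toAdd) := rfl

/-- The affine group. -/
abbrev Aff : Type _ := Multiplicative R ⋊[act U] U

theorem orderOf_eq_right (hfix : ∀ u : U, u ≠ 1 → IsUnit (((u : Rˣ) : R) - 1)) {g : Aff U}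
    (hg : g.right ≠ 1) : orderOf g = orderOf g.right := by
  obtain ⟨v, hv⟩ := hfix _ hg
  let w : Aff U := SemidirectProduct.inl (Multiplicative.ofAdd (-((v⁻¹ : Rˣ) : R) * g.left.toAdd))
  have hconj : g = w * SemidirectProduct.inr g.right * w⁻¹ := by
    refine SemidirectProduct.ext ?_ ?_
    · apply Multiplicative.toAdd.injective
      simp only [w, SemidirectProduct.mul_left, SemidirectProduct.mul_right,
        SemidirectProduct.inv_left, SemidirectProduct.left_inl, SemidirectProduct.right_inl,
        SemidirectProduct.left_inr, SemidirectProduct.right_inr, map_one, inv_one, one_mul,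
        act_apply, MulAut.one_apply, toAdd_mul, toAdd_inv, toAdd_one, toAdd_ofAdd, mul_zero,
        add_zero, map_inv]
      linear_combination (norm := ring_nf) (((v⁻¹ : Rˣ) : R) * g.left.toAdd) * hv
        + (-g.left.toAdd) * (Units.inv_mul v)
    · simp [w]
  conv_lhs => rw [hconj]
  rw [show w * SemidirectProduct.inr g.right * w⁻¹ = MulAut.conj w (SemidirectProduct.inr g.right)
    from rfl, MulEquiv.orderOf_eq, orderOf_injective _ SemidirectProduct.inr_injective]

theorem isSolvable : Group.IsSolvable (Aff U) :=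
  solvable_of_ker_le_range SemidirectProduct.inl SemidirectProduct.rightHom
    SemidirectProduct.range_inl_eq_ker_rightHom.ge

theorem range_orderOf [Finite R] (hfix : ∀ u : U, u ≠ 1 → IsUnit (((u : Rˣ) : R) - 1))
    {a b : ℕ} [CharP R b] (hU : Nat.card U = a) (ζ : U) (hζ : orderOf ζ = a) :
    Set.range (orderOf : Aff U → ℕ) = {m | m ∣ b ∨ m ∣ a} := by
  ext m
  simp only [Set.mem_range, Set.mem_setOf_eq]
  constructor
  · rintro ⟨g, rfl⟩
    by_cases hg : g.right = 1
    · left
      have : g = SemidirectProduct.inl g.left := SemidirectProduct.ext (by simp) (by simp [hg])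
      rw [this, orderOf_injective _ SemidirectProduct.inl_injective, orderOf_dvd_iff_pow_eq_one]
      apply Multiplicative.toAdd.injective
      simp [CharP.cast_eq_zero R b]
    · right
      rw [orderOf_eq_right U hfix hg, ← hU]
      exact orderOf_dvd_natCard _
  · rintro (hm | hm)
    · have hb : addOrderOf (1 : R) = b := by
        refine Nat.dvd_antisymm (addOrderOf_dvd_of_nsmul_eq_zero (by simp [CharP.cast_eq_zero R b])) ?_
        rw [← CharP.cast_eq_zero_iff R b]
        simpa using addOrderOf_nsmul_eq_zero (1 : R)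
      have hx : orderOf (Multiplicative.ofAdd (1 : R)) = b := by rw [orderOf_ofAdd_eq_addOrderOf, hb]
      refine ⟨SemidirectProduct.inl (Multiplicative.ofAdd (1 : R) ^ (b / m)), ?_⟩
      rw [orderOf_injective _ SemidirectProduct.inl_injective]
      conv_lhs => rw [← hx]
      exact orderOf_pow_orderOf_div (orderOf_pos _).ne' (hx ▸ hm)
    · refine ⟨SemidirectProduct.inr (ζ ^ (a / m)), ?_⟩
      rw [orderOf_injective _ SemidirectProduct.inr_injective]
      conv_lhs => rw [← hζ]
      exact orderOf_pow_orderOf_div (orderOf_pos _).ne' (hζ ▸ hm)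

end Ring

/-- For coprime `a`, `b` there is a solvable group whose element orders are the divisors of `b`
and of `a`. -/
theorem exists_solvable {a b : ℕ} (ha : 1 ≤ a) (hb : 2 ≤ b) (hab : Nat.Coprime a b) :
    ∃ (H : Type) (_ : Group H) (_ : Finite H), Group.IsSolvable H ∧
      Set.range (orderOf : H → ℕ) = {m | m ∣ b ∨ m ∣ a} := by
  haveI : NeZero b := ⟨by omega⟩
  haveI : Fact (1 < b) := ⟨by omega⟩
  haveI : NeZero a := ⟨by omega⟩
  set Φ : (ZMod b)[X] := cyclotomic a (ZMod b) with hΦ
  have hm : Φ.Monic := cyclotomic.monic a _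
  have hdeg : 0 < Φ.natDegree := by
    rw [hΦ, natDegree_cyclotomic]; exact Nat.totient_pos.2 (by omega)
  let R : Type := AdjoinRoot Φ
  have hinj : Function.Injective (AdjoinRoot.of Φ) := by
    rw [injective_iff_map_eq_zero]
    intro x hx
    by_contra hne
    refine hm.not_dvd_of_natDegree_lt (C_ne_zero.2 hne) ?_ (AdjoinRoot.mk_eq_zero.1 hx)
    rwa [natDegree_C]
  haveI : CharP R b := charP_of_injective_ringHom hinj b
  haveI := hm.finite_adjoinRoot
  haveI : Finite R := Module.finite_of_finite (ZMod b) (M := AdjoinRoot Φ)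
  haveI : Nontrivial R := hinj.nontrivial
  let z : R := AdjoinRoot.root Φ
  have hroot : ∀ P : ℤ[X], cyclotomic a ℤ ∣ P → aeval z P = 0 := by
    rintro P ⟨Q, rfl⟩
    have h0 : aeval z (cyclotomic a ℤ) = 0 := by
      rw [← aeval_map_algebraMap (ZMod b), map_cyclotomic, AdjoinRoot.aeval_eq, ← hΦ]
      exact AdjoinRoot.mk_self
    rw [map_mul, h0, zero_mul]
  have hza : z ^ a = 1 := by
    have := hroot _ (cyclotomic.dvd_X_pow_sub_one a ℤ)
    simpa [sub_eq_zero] using this
  have hunit : ∀ k : ℕ, ¬ a ∣ k → IsUnit (z ^ k - 1) := by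
    intro k hk
    have hpr : Prime (cyclotomic a ℤ) := (cyclotomic.irreducible (by omega)).prime
    have hnd : ¬ cyclotomic a ℤ ∣ X ^ k - 1 := by
      rintro ⟨Q, hQ⟩
      have hprim := Complex.isPrimitiveRoot_exp a (by omega)
      apply hk
      rw [← hprim.pow_eq_one_iff_dvd]
      have h := congrArg (aeval (Complex.exp (2 * Real.pi * Complex.I / a))) hQ
      rw [map_mul, ← aeval_map_algebraMap ℂ _ (cyclotomic a ℤ), map_cyclotomic] at h
      rw [coe_aeval_eq_eval, (hprim.isRoot_cyclotomic (by omega)).eq_zero] at h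
      simpa [sub_eq_zero] using h
    have hdvd : cyclotomic a ℤ ∣ ∑ j ∈ Finset.range a, ((X : ℤ[X]) ^ k) ^ j := by
      have h1 : cyclotomic a ℤ ∣ (∑ j ∈ Finset.range a, ((X : ℤ[X]) ^ k) ^ j) * (X ^ k - 1) := by
        rw [geom_sum_mul, ← pow_mul, mul_comm k a, pow_mul]
        exact (cyclotomic.dvd_X_pow_sub_one a ℤ).trans (sub_one_dvd_pow_sub_one _ k)
      exact (hpr.dvd_or_dvd h1).resolve_right hnd
    have hS : ∑ j ∈ Finset.range a, (z ^ k) ^ j = 0 := by
      have := hroot _ hdvd
      simpa using this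
    have hd : z ^ k - 1 ∣ ∑ j ∈ Finset.range a, ((z ^ k) ^ j - 1) :=
      Finset.dvd_sum fun j _ => sub_one_dvd_pow_sub_one _ j
    rw [Finset.sum_sub_distrib, hS, zero_sub, dvd_neg, Finset.sum_const, Finset.card_range,
      nsmul_eq_mul, mul_one] at hd
    refine isUnit_of_dvd_unit hd ?_
    have := ((ZMod.isUnit_iff_coprime a b).2 hab).map (AdjoinRoot.of Φ)
    rwa [map_natCast] at this
  let ζ : Rˣ := Units.ofPowEqOne z a hza (by omega)
  have hζv : ((ζ : Rˣ) : R) = z := rfl
  have hζ : orderOf ζ = a := by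
    have h1 : ζ ^ a = 1 := Units.ext (by rw [Units.val_pow_eq_pow_val, hζv, hza, Units.val_one])
    refine Nat.dvd_antisymm (orderOf_dvd_of_pow_eq_one h1) ?_
    by_contra hk
    have := hunit _ hk
    rw [← hζv, ← Units.val_pow_eq_pow_val, pow_orderOf_eq_one, Units.val_one, sub_self] at this
    exact not_isUnit_zero this
  haveI : Finite (Aff (Subgroup.zpowers ζ)) :=
    Finite.of_equiv _ SemidirectProduct.equivProd.symm
  refine ⟨Aff (Subgroup.zpowers ζ), inferInstance, inferInstance, isSolvable _,
    range_orderOf (b := b) _ ?_ (by rw [Nat.card_zpowers, hζ]) ⟨ζ, Subgroup.mem_zpowers ζ⟩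
      (by rw [← orderOf_injective (Subgroup.subtype _) Subtype.val_injective]; exact hζ)⟩
  rintro ⟨u, hu⟩ hne
  obtain ⟨k, rfl⟩ := (mem_powers_iff_mem_zpowers.2 hu)
  show IsUnit (((ζ ^ k : Rˣ) : R) - 1)
  rw [Units.val_pow_eq_pow_val, hζv]
  refine hunit k fun hk => hne (Subtype.ext ?_)
  show ζ ^ k = 1
  rw [← hζ] at hk
  exact orderOf_dvd_iff_pow_eq_one.1 hk

end Cfsg.Agent.Spectrum.FrobAffine
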