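import Cfsg.Agent.Classical.Embeddings
import Cfsg.Agent.Classical.SympGroup
import Cfsg.Agent.Spectrum.Primary

/-!
Orders in `PSp` of isometries of alternating spaces; block sums.
-/

set_option autoImplicit false

namespace Cfsg.Agent.Spectrum

open Module Cfsg.Agent.Classical

universe u v

/-- `x` acts as plus or minus one after `d` steps. -/
def ScalarPow {F : Type u} [Field F] {V : Type v} [AddCommGroup V] [Module F V] (g : V ≃ₗ[F] V) (d : ℕ) : Prop :=
  ∃ c : F, c * c = 1 ∧ ∀ x : V, (g ^ d) x = c • x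

variable {F : Type u} [Field F] {V : Type v} [AddCommGroup V] [Module F V] [FiniteDimensional F V]
  {B : LinearMap.BilinForm F V}

theorem nontrivial_of_finrank {n : ℕ} (hV : finrank F V = 2 * n) (hn : 1 ≤ n) : Nontrivial V :=
  Module.nontrivial_of_finrank_pos (R := F) (by omega)

theorem mem_center_iso_iff [Nontrivial V] (hA : B.IsAlt) (hB : B.Nondegenerate) {g : Alt.isoGroup B} :
    g ∈ Subgroup.center (Alt.isoGroup B) ↔ ∃ c : F, c * c = 1 ∧ ∀ x : V, g.1 x = c • x := by
  constructor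
  · intro hg
    obtain ⟨a, ha⟩ := (Alt.scalarE_bijective hA hB).2 ⟨g, hg⟩
    refine ⟨((a : Fˣ) : F), ?_, fun x => ?_⟩
    · rw [← Units.val_mul, ← pow_two, (mem_rootsOfUnity _ _).1 a.2, Units.val_one]
    · rw [show g = (Alt.scalarE B a).1 from (congrArg Subtype.val ha).symm]
      rfl
  · rintro ⟨c, -, hg⟩
    rw [Subgroup.mem_center_iff]
    intro h
    refine Subtype.ext (LinearEquiv.ext fun x => ?_)
    show h.1 (g.1 x) = g.1 (h.1 x)
    rw [hg, hg, map_smul]

variable [Fintype F]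

/-- An isometry of an alternating space as an element of `PSp`. -/
theorem exists_psp_of_iso {n : ℕ} (hn : 1 ≤ n) (hV : finrank F V = 2 * n) (hA : B.IsAlt) (hB : B.Nondegenerate) :
    ∃ φ : Alt.isoGroup B →* Cfsg.PSp n F,
      Function.Surjective φ ∧ ∀ g d, orderOf (φ g) ∣ d ↔ ScalarPow g.1 d := by
  haveI := nontrivial_of_finrank hV hn
  obtain ⟨ψ, hψ⟩ := Embed.exists_hom_symplectic hV B hA (fun x hx => hB.1 x hx)
    (Alt.isoGroup B).subtype (Alt.isoGroup B).subtype_injective fun g x y => g.2 x y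
  haveI : Finite V := Module.finite_of_finite F
  haveI : Finite (V ≃ₗ[F] V) := Finite.of_injective (fun g : V ≃ₗ[F] V => (g : V → V)) DFunLike.coe_injective
  have hb : Function.Bijective ψ := (Nat.bijective_iff_injective_and_card ψ).2 ⟨hψ, by
    rw [Alt.card_isoGroup hA hB n hV, card_symplecticGroup rfl n]⟩
  let e := MulEquiv.ofBijective ψ hb
  refine ⟨(QuotientGroup.mk' _).comp e.toMonoidHom, (QuotientGroup.mk'_surjective _).comp e.surjective, fun g d => ?_⟩
  rw [orderOf_dvd_iff_pow_eq_one, ← map_pow, MonoidHom.comp_apply, ← MonoidHom.mem_ker, QuotientGroup.ker_mk']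
  have hc : e (g ^ d) ∈ Subgroup.center (Matrix.symplecticGroup (Fin n) F) ↔ g ^ d ∈ Subgroup.center (Alt.isoGroup B) := by
    rw [Subgroup.mem_center_iff, Subgroup.mem_center_iff]
    refine ⟨fun h x => e.injective (by rw [map_mul, map_mul, h]), fun h y => ?_⟩
    obtain ⟨x, rfl⟩ := e.surjective y
    rw [← map_mul, ← map_mul, h]
  rw [show e.toMonoidHom (g ^ d) = e (g ^ d) from rfl, hc, mem_center_iso_iff hA hB]
  rfl

section Sum

variable {W : Type*} [AddCommGroup W] [Module F W] [FiniteDimensional F W] {C : LinearMap.BilinForm F W}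

omit [FiniteDimensional F V] [Fintype F] [FiniteDimensional F W] in
theorem sum_form (hA : B.IsAlt) (hB : B.Nondegenerate) (hC : C.IsAlt) (hD : C.Nondegenerate) :
    (B.comp (LinearMap.fst F V W) (LinearMap.fst F V W) + C.comp (LinearMap.snd F V W) (LinearMap.snd F V W)).IsAlt ∧
    (B.comp (LinearMap.fst F V W) (LinearMap.fst F V W) +
      C.comp (LinearMap.snd F V W) (LinearMap.snd F V W)).Nondegenerate := by
  have hA' : (B.comp (LinearMap.fst F V W) (LinearMap.fst F V W) +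
      C.comp (LinearMap.snd F V W) (LinearMap.snd F V W)).IsAlt := fun x => by simp [hA x.1, hC x.2]
  refine ⟨hA', (hA'.isRefl.nondegenerate_iff_separatingLeft).2 fun x hx => Prod.ext ?_ ?_⟩
  · exact hB.1 x.1 fun y => by simpa using hx (y, 0)
  · exact hD.1 x.2 fun y => by simpa using hx (0, y)

/-- An orthogonal sum of two isometries, in `PSp`. -/
theorem exists_psp_sum {a b : ℕ} (ha : 1 ≤ a) (hV : finrank F V = 2 * a) (hW : finrank F W = 2 * b)
    (hA : B.IsAlt) (hB : B.Nondegenerate) (hC : C.IsAlt) (hD : C.Nondegenerate) (g : Alt.isoGroup B)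
    (h : Alt.isoGroup C) :
    ∃ x : Cfsg.PSp (a + b) F, ∀ d, orderOf x ∣ d ↔
      ∃ c : F, c * c = 1 ∧ (∀ v : V, (g.1 ^ d) v = c • v) ∧ ∀ w : W, (h.1 ^ d) w = c • w := by
  obtain ⟨hA', hB'⟩ := sum_form hA hB hC hD
  obtain ⟨φ, -, hφ⟩ := exists_psp_of_iso (n := a + b) (by omega) (by rw [Module.finrank_prod, hV, hW]; ring) hA' hB'
  let k : (V × W) ≃ₗ[F] (V × W) := g.1.prodCongr h.1
  refine ⟨φ ⟨k, fun x y => by simp [k, g.2 x.1 y.1, h.2 x.2 y.2]⟩, fun d => ?_⟩
  rw [hφ]
  have hk : ∀ (d : ℕ) (x : V × W), (k ^ d) x = ((g.1 ^ d) x.1, (h.1 ^ d) x.2) := by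
    intro d
    induction d with
    | zero => intro x; rfl
    | succ d ih => intro x; rw [pow_succ, pow_succ, pow_succ, LinearEquiv.mul_apply, ih]; rfl
  refine ⟨fun ⟨c, hc, hx⟩ => ⟨c, hc, fun v => ?_, fun w => ?_⟩, fun ⟨c, hc, hv, hw⟩ => ⟨c, hc, fun x => ?_⟩⟩
  · simpa [hk] using congrArg Prod.fst (hx (v, 0))
  · simpa [hk] using congrArg Prod.snd (hx (0, w))
  · rw [hk, hv, hw]; rfl

end Sum

end Cfsg.Agent.Spectrum
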