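import Cfsg.Agent.Spectrum.SUStruct

/-!
One cyclic torus of `PSU_n(q)` covers the semisimple parts of the exceptional elements.
-/

set_option autoImplicit false

namespace Cfsg.Agent.Spectrum

open Polynomial Cfsg.Agent.Classical Matrix

variable {F : Type*} [Field F] [Fintype F] {σ : F →+* F} {n q : ℕ}

/-- A semisimple unitary matrix with a single orbit of eigenvalues, or one orbit pair. -/
def Exceptional (σ : F →+* F) (A : Matrix (Fin n) (Fin n) F) : Prop :=
  ∃ f : F[X], f.Monic ∧ Irreducible f ∧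
    ((Odd f.natDegree ∧ f ∣ X ^ (q ^ f.natDegree + 1) - 1 ∧ f ∣ crev σ f ∧ aeval A f = 0) ∨
      ∃ e : Matrix (Fin n) (Fin n) F, Commute A e ∧ e * e = e ∧ e + uadj σ e = 1 ∧ aeval A f * (1 - e) = 0)

theorem exists_dominant {C : Type*} [Group C] [Finite C] [IsCyclic C] (hσ : Herm.IsInvol σ)
    (hσq : ∀ x, σ x = x ^ q) (hq : Nat.card (Herm.fixField σ) = q) (hn : 2 ≤ n) (M : C →* Matrix (Fin n) (Fin n) F)
    (hM : ∀ u, uadj σ (M u) * M u = 1) (hd : ∀ u, (M u).det = 1) :
    ∃ c : Cfsg.PSU n F q, orderOf c ∣ Nat.card C ∧ ∀ (A : Cfsg.SU n F q) (u : C),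
      (∀ (D : ℕ) (a : F), M u ^ D = a • 1 →
        ((A : Matrix.SpecialLinearGroup (Fin n) F) : Matrix (Fin n) (Fin n) F) ^ D = a • 1) →
      orderOf (toPSU n F q A) ∣ orderOf c := by
  let ρ : C →* Cfsg.SU n F q :=
    { toFun := fun u => ⟨⟨M u, hd u⟩, (mem_SU_iff_adj hσq _).2 (hM u)⟩
      map_one' := Subtype.ext (Subtype.ext (map_one M))
      map_mul' := fun u v => Subtype.ext (Subtype.ext (map_mul M u v)) }
  obtain ⟨g, hg⟩ := IsCyclic.exists_generator (α := C)
  refine ⟨toPSU n F q (ρ g), ?_, fun A u h => ?_⟩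
  · exact ((orderOf_map_dvd _ _).trans (orderOf_map_dvd _ _)).trans (orderOf_dvd_natCard g)
  · obtain ⟨a, ha⟩ := (orderOf_toPSU_dvd_iff hσ hσq hq hn (ρ u) _).1 dvd_rfl
    have h1 : orderOf (toPSU n F q A) ∣ orderOf (toPSU n F q (ρ u)) :=
      (orderOf_toPSU_dvd_iff hσ hσq hq hn A _).2 ⟨a, h _ a ha⟩
    refine h1.trans (orderOf_dvd_of_mem_zpowers ?_)
    obtain ⟨i, hi⟩ := Subgroup.mem_zpowers_iff.1 (hg u)
    exact Subgroup.mem_zpowers_iff.2 ⟨i, by rw [← map_zpow, ← map_zpow, hi]⟩

variable (p : ℕ) [Fact p.Prime] [CharP F p] {i₀ : ℕ} (hqp : q = p ^ i₀) (hF : Fintype.card F = q ^ 2)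
  (hσ : Herm.IsInvol σ) (hσq : ∀ x, σ x = x ^ q) (hq : Nat.card (Herm.fixField σ) = q)

include hqp hF hσ hσq hq in
set_option maxHeartbeats 1000000 in
theorem exists_singer_odd (hn : 2 ≤ n) (hodd : Odd n) :
    ∃ c : Cfsg.PSU n F q, orderOf c ∣ Fintype.card F ^ n - 1 ∧ ∀ A : Cfsg.SU n F q,
      Exceptional (q := q) σ ((A : Matrix.SpecialLinearGroup (Fin n) F) : Matrix (Fin n) (Fin n) F) →
      orderOf (toPSU n F q A) ∣ orderOf c := by
  classical
  haveI : NeZero n := ⟨by omega⟩
  let E := FiniteField.Extension F p n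
  haveI : Fintype E := Fintype.ofFinite E
  have hcE : Fintype.card E = Fintype.card F ^ n := by
    rw [← Nat.card_eq_fintype_card, FiniteField.natCard_extension, Nat.card_eq_fintype_card]
  haveI : CharP E p := charP_of_injective_algebraMap (algebraMap F E).injective p
  let bar : E →+* E := iterateFrobenius E p (i₀ * n)
  have hbar : ∀ x, bar x = x ^ q ^ n := fun x => by rw [hqp, ← pow_mul]; exact iterateFrobenius_def ..
  have hbb : ∀ x, bar (bar x) = x := fun x => by
    rw [hbar, hbar, ← pow_mul, ← pow_add, show q ^ (n + n) = Fintype.card E by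
      rw [hcE, hF, ← pow_mul, two_mul], FiniteField.pow_card]
  have hbF : ∀ c : F, bar (algebraMap F E c) = algebraMap F E (σ c) := fun c => by
    have hcq : ∀ m, Odd m → c ^ q ^ m = c ^ q := by
      rintro m ⟨t, rfl⟩
      rw [pow_succ, pow_mul c, pow_mul, ← hF, FiniteField.pow_card_pow]
    rw [hbar, ← map_pow, hσq, hcq n hodd]
  let σe : F ≃+* F := RingEquiv.ofBijective σ ⟨σ.injective, fun x => ⟨σ x, hσ.invol x⟩⟩
  let bare : E ≃+* E := RingEquiv.ofBijective bar ⟨bar.injective, fun x => ⟨bar x, hbb x⟩⟩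
  have htr : ∀ x, Algebra.trace F E (bar x) = σ (Algebra.trace F E x) := fun x => by
    have h := Algebra.trace_eq_of_equiv_equiv σe bare (RingHom.ext fun c => (hbF c).symm) x
    rw [h]
    show _ = σ (σe.symm (Algebra.trace F E (bare x)))
    exact (σe.apply_symm_apply _).symm
  let B : E →ₛₗ[σ] E →ₗ[F] F := LinearMap.mk₂'ₛₗ σ (RingHom.id F) (fun x y => Algebra.trace F E (bar x * y))
    (fun x y w => by rw [map_add, add_mul, map_add])
    (fun c x y => by rw [Algebra.smul_def, map_mul bar, hbF, mul_assoc, ← Algebra.smul_def, map_smul])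
    (fun x y w => by rw [mul_add, map_add])
    (fun c x y => by rw [mul_smul_comm, map_smul]; rfl)
  have hB : Herm.IsHerm B :=
    { toIsInvol := hσ
      symm := fun x y => by
        show σ (Algebra.trace F E (bar x * y)) = Algebra.trace F E (bar y * x)
        rw [← htr, map_mul bar, hbb, mul_comm]
      nondeg := fun x hx => bar.injective ((map_zero bar).symm ▸ (traceForm_nondegenerate F E).1 (bar x) fun y => by
        rw [Algebra.traceForm_apply]; exact hx y) }
  obtain ⟨ψ, hψd, hψu⟩ := exists_matrix_model hB (FiniteField.finrank_extension F p n)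
  let Λ : E →ₐ[F] Matrix (Fin n) (Fin n) F := (ψ : Module.End F E →ₐ[F] _).comp (Algebra.lmul F E)
  let δ : Eˣ →* F × E := MonoidHom.prod
    { toFun := fun u => (Λ u).det, map_one' := by simp, map_mul' := fun u v => by simp }
    { toFun := fun u => bar u * u, map_one' := by simp, map_mul' := fun u v => by simp; ring }
  let C : Subgroup Eˣ := δ.ker
  obtain ⟨c, hc, hdom⟩ := exists_dominant (C := C) hσ hσq hq hn
    ((Λ.toRingHom.toMonoidHom).comp ((Units.coeHom E).comp C.subtype))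
    (fun u => by
      refine hψu _ fun x y => ?_
      have hu : bar (u.1 : E) * (u.1 : E) = 1 := congrArg Prod.snd u.2
      show Algebra.trace F E (bar ((u.1 : E) * x) * ((u.1 : E) * y)) = Algebra.trace F E (bar x * y)
      congr 1
      rw [map_mul]; linear_combination bar x * y * hu)
    (fun u => congrArg Prod.fst u.2)
  refine ⟨c, hc.trans ?_, fun A hA => ?_⟩
  · refine C.card_subgroup_dvd_card.trans ?_
    rw [Nat.card_units, FiniteField.natCard_extension, Nat.card_eq_fintype_card]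
  set A₀ := ((A : Matrix.SpecialLinearGroup (Fin n) F) : Matrix (Fin n) (Fin n) F) with hA₀
  have hAu : uadj σ A₀ * A₀ = 1 := (mem_SU_iff_adj hσq _).1 A.2
  obtain ⟨f, hfm, hf, hS | ⟨e, hc', hee, hsum, hfA⟩⟩ := hA
  · obtain ⟨hk, hfd, -, hfA⟩ := hS
    have hkn : f.natDegree ∣ n := by simpa using natDegree_dvd_card_of_aeval_irreducible hfm hf hfA
    let b : Module.Basis (Fin n) F E := Module.finBasisOfFinrankEq F E (FiniteField.finrank_extension F p n)
    obtain ⟨z, hz⟩ := exists_singer_root p hfm hf hkn b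
    have hz' : aeval z f = 0 := by
      rw [aeval_algHom_apply] at hz
      exact Algebra.leftMulMatrix_injective b (hz.trans (map_zero _).symm)
    have hzbar : bar z * z = 1 := by
      have h1 : z ^ (q ^ f.natDegree + 1) = 1 := by
        have := aeval_eq_zero_of_dvd_aeval_eq_zero hfd hz'
        rwa [map_sub, map_pow, aeval_X, map_one, sub_eq_zero] at this
      obtain ⟨t, ht⟩ := hkn
      have hto : Odd t := (Nat.odd_mul.1 (ht ▸ hodd)).2
      obtain ⟨w, hw⟩ : q ^ f.natDegree + 1 ∣ q ^ n + 1 := by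
        rw [ht, pow_mul]
        simpa using hto.nat_add_dvd_pow_add_pow (q ^ f.natDegree) 1
      rw [hbar, ← pow_succ, hw, pow_mul, h1, one_pow]
    have hΛ : aeval (Λ z) f = 0 := by rw [aeval_algHom_apply, hz', map_zero]
    have hz0 : z ≠ 0 := fun h => by rw [h, mul_zero] at hzbar; exact zero_ne_one hzbar
    have hmem : Units.mk0 z hz0 ∈ C := by
      refine Prod.ext ?_ hzbar
      show (Λ z).det = 1
      rw [← det_eq_of_aeval_irreducible hfm hf hfA hΛ]
      exact A.1.2
    exact hdom A ⟨_, hmem⟩ fun D a h => (pow_eq_scalar_iff hfm hf hfA hΛ D a).2 h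
  · exfalso
    obtain ⟨j, hj, -⟩ := det_pair (by omega) hσ hAu hc' hee hsum hfm hf hfA
    obtain ⟨t, ht⟩ := hodd
    omega

include hqp hF hσ hσq hq in
set_option maxHeartbeats 1000000 in
theorem exists_singer_even (hn : 2 ≤ n) {j : ℕ} (hnj : n = 2 * j) :
    ∃ c : Cfsg.PSU n F q, orderOf c ∣ Fintype.card F ^ n - 1 ∧ ∀ A : Cfsg.SU n F q,
      Exceptional (q := q) σ ((A : Matrix.SpecialLinearGroup (Fin n) F) : Matrix (Fin n) (Fin n) F) →
      orderOf (toPSU n F q A) ∣ orderOf c := by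
  classical
  haveI : NeZero j := ⟨by omega⟩
  let E := FiniteField.Extension F p j
  let b : Module.Basis (Fin j) F E := Module.finBasisOfFinrankEq F E (FiniteField.finrank_extension F p j)
  let Λ := Algebra.leftMulMatrix b
  have hJ := hermB_isHerm hσ j
  let B : ((Fin j → F) × (Fin j → F)) →ₛₗ[σ] ((Fin j → F) × (Fin j → F)) →ₗ[F] F := LinearMap.mk₂'ₛₗ σ (RingHom.id F)
    (fun x y => hermB j σ x.1 y.2 + hermB j σ x.2 y.1)
    (fun x y w => by simp only [Prod.fst_add, Prod.snd_add, map_add, LinearMap.add_apply]; ring)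
    (fun c x y => by simp only [Prod.smul_fst, Prod.smul_snd, map_smulₛₗ, LinearMap.smul_apply, smul_eq_mul]; ring)
    (fun x y w => by simp only [Prod.fst_add, Prod.snd_add, map_add]; ring)
    (fun c x y => by
      simp only [Prod.smul_fst, Prod.smul_snd, map_smul, RingHom.id_apply, smul_eq_mul]; ring)
  have hB : Herm.IsHerm B :=
    { toIsInvol := hσ
      symm := fun x y => by
        show σ (hermB j σ x.1 y.2 + hermB j σ x.2 y.1) = hermB j σ y.1 x.2 + hermB j σ y.2 x.1
        rw [map_add, hJ.symm, hJ.symm, add_comm]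
      nondeg := fun x hx => by
        refine Prod.ext (hJ.nondeg x.1 fun y => ?_) (hJ.nondeg x.2 fun y => ?_)
        · have h := hx (0, y)
          simpa [B] using h
        · have h := hx (y, 0)
          simpa [B] using h }
  obtain ⟨ψ, hψd, hψu⟩ := exists_matrix_model hB (n := n) (by
    rw [Module.finrank_prod, Module.finrank_fin_fun, hnj, two_mul])
  let L : Matrix (Fin j) (Fin j) F →ₐ[F] Module.End F (Fin j → F) := Matrix.toLinAlgEquiv'.toAlgHom
  have hL : ∀ (X : Matrix (Fin j) (Fin j) F) v, L X v = X *ᵥ v := fun X v => rfl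
  let P : Module.End F (Fin j → F) × Module.End F (Fin j → F) →ₐ[F] Module.End F ((Fin j → F) × (Fin j → F)) :=
    LinearMap.prodMapAlgHom F (Fin j → F) (Fin j → F)
  let Φ : Matrix (Fin j) (Fin j) F × Matrix (Fin j) (Fin j) F →ₐ[F] Matrix (Fin n) (Fin n) F :=
    ((ψ : Module.End F ((Fin j → F) × (Fin j → F)) →ₐ[F] _).comp P).comp (AlgHom.prodMap L L)
  let tw : Eˣ →* Matrix (Fin j) (Fin j) F :=
    { toFun := fun u => uadj σ (Λ ((u⁻¹ : Eˣ) : E))
      map_one' := by rw [inv_one, Units.val_one, map_one, uadj_one]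
      map_mul' := fun u v => by
        rw [mul_inv, Units.val_mul, mul_comm, map_mul, uadj_mul] }
  let M : Eˣ →* Matrix (Fin n) (Fin n) F :=
    (Φ : _ →* Matrix (Fin n) (Fin n) F).comp (MonoidHom.prod ((Λ.toRingHom.toMonoidHom).comp (Units.coeHom E)) tw)
  have hMdet : ∀ u : Eˣ, (M u).det = (Λ (u : E)).det * σ (Λ ((u⁻¹ : Eˣ) : E)).det := fun u => by
    show (ψ (P (L (Λ (u : E)), L (tw u)))).det = _
    rw [hψd]
    show LinearMap.det (LinearMap.prodMap (L (Λ (u : E))) (L (tw u))) = _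
    rw [LinearMap.det_prodMap]
    show LinearMap.det (Matrix.toLin' (Λ (u : E))) * LinearMap.det (Matrix.toLin' (tw u)) = _
    rw [LinearMap.det_toLin', LinearMap.det_toLin', show tw u = uadj σ (Λ ((u⁻¹ : Eˣ) : E)) from rfl, det_uadj]
  have hinv : ∀ u : Eˣ, Λ (u : E) * Λ ((u⁻¹ : Eˣ) : E) = 1 := fun u => by rw [← map_mul, u.mul_inv, map_one]
  have hMu : ∀ u, uadj σ (M u) * M u = 1 := fun u => by
    refine hψu _ fun x y => ?_
    show hermB j σ (Λ (u : E) *ᵥ x.1) (uadj σ (Λ ((u⁻¹ : Eˣ) : E)) *ᵥ y.2) +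
      hermB j σ (uadj σ (Λ ((u⁻¹ : Eˣ) : E)) *ᵥ x.2) (Λ (u : E) *ᵥ y.1) =
      hermB j σ x.1 y.2 + hermB j σ x.2 y.1
    rw [hermB_mulVec, hermB_mulVec, Matrix.mulVec_mulVec, Matrix.mulVec_mulVec, uadj_uadj hσ, ← uadj_mul,
      mul_eq_one_comm.1 (hinv u), uadj_one, Matrix.one_mulVec, Matrix.one_mulVec]
  let C : Subgroup Eˣ := (Matrix.detMonoidHom.comp M).ker
  obtain ⟨c, hc, hdom⟩ := exists_dominant (C := C) hσ hσq hq hn (M.comp C.subtype) (fun u => hMu _) fun u => u.2
  refine ⟨c, hc.trans ?_, fun A hA => ?_⟩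
  · refine C.card_subgroup_dvd_card.trans ?_
    rw [Nat.card_units, FiniteField.natCard_extension, Nat.card_eq_fintype_card, hnj]
    exact Nat.pow_sub_one_dvd_pow_sub_one _ (dvd_mul_left j 2)
  set A₀ := ((A : Matrix.SpecialLinearGroup (Fin n) F) : Matrix (Fin n) (Fin n) F) with hA₀
  have hAu : uadj σ A₀ * A₀ = 1 := (mem_SU_iff_adj hσq _).1 A.2
  haveI : Nonempty (Fin n) := ⟨⟨0, by omega⟩⟩
  obtain ⟨f, hfm, hf, hS | ⟨e, hc', hee, hsum, hfA⟩⟩ := hA
  · obtain ⟨hk, hfd, hrev, hfA⟩ := hS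
    have hkn : f.natDegree ∣ n := by simpa using natDegree_dvd_card_of_aeval_irreducible hfm hf hfA
    have hkj : f.natDegree ∣ j :=
      (Nat.Coprime.dvd_mul_left (hk.coprime_two_right)).1 (hnj ▸ hkn)
    obtain ⟨z, hz⟩ := exists_singer_root p hfm hf hkj b
    have hz0 : z ≠ 0 := fun h => by
      have h1 := aeval_eq_zero_of_dvd_aeval_eq_zero hfd hz
      rw [h, map_zero, map_sub, map_pow, aeval_X, map_one, zero_pow (Nat.succ_ne_zero _), zero_sub,
        neg_eq_zero] at h1
      haveI : Nonempty (Fin j) := ⟨⟨0, by omega⟩⟩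
      exact one_ne_zero h1
    set u := Units.mk0 z hz0
    have htw : aeval (tw u) f = 0 := by
      have h1 : aeval (Λ z) (crev σ f) = 0 := aeval_eq_zero_of_dvd_aeval_eq_zero hrev hz
      rw [crev, aeval_reverse_mul' (show Λ z * Λ ((u⁻¹ : Eˣ) : E) = 1 from hinv u)] at h1
      have h2 : aeval (Λ ((u⁻¹ : Eˣ) : E)) (f.map σ) = 0 := by
        have h3 : IsUnit (Λ z ^ (f.map σ).natDegree) := (IsUnit.of_mul_eq_one _ (hinv u)).pow _
        exact h3.mul_right_eq_zero.1 h1
      have h4 := congrArg (uadj σ) h2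
      rw [uadj_zero, uadj_aeval, Polynomial.map_map,
        show σ.comp σ = RingHom.id F from RingHom.ext hσ.invol, Polynomial.map_id] at h4
      exact h4
    have hMf : aeval (M u) f = 0 := by
      show aeval (Φ (Λ z, tw u)) f = 0
      rw [aeval_algHom_apply]
      have : aeval (Λ z, tw u) f = (0, 0) := Prod.ext
        ((aeval_algHom_apply (AlgHom.fst F (Matrix (Fin j) (Fin j) F) (Matrix (Fin j) (Fin j) F)) _ f).symm.trans hz)
        ((aeval_algHom_apply (AlgHom.snd F (Matrix (Fin j) (Fin j) F) (Matrix (Fin j) (Fin j) F)) _ f).symm.trans htw)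
      rw [this]
      exact map_zero Φ
    have hmem : u ∈ C := by
      show (M u).det = 1
      rw [← det_eq_of_aeval_irreducible hfm hf hfA hMf]
      exact A.1.2
    exact hdom A ⟨u, hmem⟩ fun D a h => (pow_eq_scalar_iff hfm hf hfA hMf D a).2 h
  · obtain ⟨j', hj', hkj, hdet⟩ := det_pair (by omega) hσ hAu hc' hee hsum hfm hf hfA
    obtain rfl : j' = j := by omega
    obtain ⟨z, hz⟩ := exists_singer_root p hfm hf hkj b
    haveI : Nonempty (Fin j') := ⟨⟨0, by omega⟩⟩
    have hz0 : z ≠ 0 := fun h => by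
      have hfX : f ∣ X := by
        rw [h, map_zero, ← minpoly.dvd_iff, minpoly.zero F (Matrix (Fin j') (Fin j') F)] at hz
        exact (irreducible_X.associated_of_dvd hf hz).dvd'
      obtain ⟨r, hr⟩ := hfX
      have h3 : aeval A₀ (X : F[X]) * (1 - e) = 0 := by
        rw [hr, mul_comm f r, map_mul, mul_assoc, hfA, mul_zero]
      rw [aeval_X] at h3
      have h4 : 1 - e = 0 := by
        have := congrArg (uadj σ A₀ * ·) h3
        simpa [← mul_assoc, hAu] using this
      have h5 : e = 1 := (sub_eq_zero.1 h4).symm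
      rw [h5, uadj_one] at hsum
      exact one_ne_zero (add_eq_left.1 hsum)
    set u := Units.mk0 z hz0
    have hdetz : σ (Λ z).det = (Λ z).det := by
      have h := hdet _ hz
      rwa [show A₀.det = 1 from A.1.2, one_mul] at h
    have hmem : u ∈ C := by
      show (M u).det = 1
      rw [hMdet, show ((u : Eˣ) : E) = z from rfl, ← hdetz, ← map_mul, ← Matrix.det_mul]
      rw [show Λ z * Λ ((u⁻¹ : Eˣ) : E) = 1 from hinv u, Matrix.det_one, map_one]
    refine hdom A ⟨u, hmem⟩ fun D a h => ?_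
    have hpow : (Λ z ^ D, tw u ^ D) = (a • 1, a • 1) := by
      have hinj : Function.Injective Φ := by
        intro x y hxy
        have h' := ψ.injective hxy
        refine Prod.ext (Matrix.toLinAlgEquiv'.injective (LinearMap.ext fun v => ?_))
          (Matrix.toLinAlgEquiv'.injective (LinearMap.ext fun v => ?_))
        · exact congrArg Prod.fst (LinearMap.congr_fun h' (v, 0))
        · exact congrArg Prod.snd (LinearMap.congr_fun h' (0, v))
      refine hinj ?_
      calc Φ (Λ z ^ D, tw u ^ D) = M u ^ D := by rw [← Prod.pow_mk, map_pow]; rfl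
        _ = a • 1 := h
        _ = Φ (a • 1, a • 1) := by rw [← Prod.smul_mk, map_smul]; congr 1; exact (map_one Φ).symm
    have h1 : Λ z ^ D = a • 1 := congrArg Prod.fst hpow
    have h2 : Λ ((u⁻¹ : Eˣ) : E) ^ D = σ a • 1 := by
      have h := congrArg (uadj σ) (congrArg Prod.snd hpow : tw u ^ D = a • 1)
      simp only [uadj_pow, uadj_smul, uadj_one] at h
      rwa [show uadj σ (tw u) = Λ ((u⁻¹ : Eˣ) : E) from uadj_uadj hσ _] at h
    have haa : a * σ a = 1 := by
      have hcomm : Commute (Λ z) (Λ ((u⁻¹ : Eˣ) : E)) := (Commute.all z _).map Λ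
      have h3 : (Λ z * Λ ((u⁻¹ : Eˣ) : E)) ^ D = (a * σ a) • 1 := by
        rw [hcomm.mul_pow, h1, h2, smul_mul_smul_comm, one_mul]
      rw [show Λ z * Λ ((u⁻¹ : Eˣ) : E) = 1 from hinv u, one_pow] at h3
      have h4 := congrFun (congrFun h3 ⟨0, by omega⟩) ⟨0, by omega⟩
      simpa using h4.symm
    have hfd : f ∣ X ^ D - Polynomial.C a := by
      rw [minpoly.eq_of_irreducible_of_monic hf hz hfm, minpoly.dvd_iff, map_sub, map_pow, aeval_X, aeval_C, h1,
        Algebra.algebraMap_eq_smul_one, sub_self]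
    have h5 : (A₀ ^ D - a • 1) * (1 - e) = 0 := by
      obtain ⟨r, hr⟩ := hfd
      have h' : aeval A₀ (X ^ D - Polynomial.C a) * (1 - e) = 0 := by
        rw [hr, mul_comm f r, map_mul, mul_assoc, hfA, mul_zero]
      rwa [map_sub, map_pow, aeval_X, aeval_C, Algebra.algebraMap_eq_smul_one] at h'
    have h6 : (A₀ ^ D - a • 1) * e = 0 := by
      have h := congrArg (uadj σ) h5
      rw [uadj_mul, uadj_zero, uadj_sub, uadj_one, uadj_sub, uadj_smul, uadj_one, uadj_pow,
        show 1 - uadj σ e = e from (eq_sub_of_add_eq hsum).symm] at h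
      have hAD : uadj σ A₀ ^ D * A₀ ^ D = 1 := by
        rw [← (show Commute (uadj σ A₀) A₀ from hAu.trans (mul_eq_one_comm.1 hAu).symm).mul_pow, hAu, one_pow]
      have h' := congrArg (fun X => a • (X * A₀ ^ D)) h
      simp only [zero_mul, smul_zero, mul_assoc, sub_mul, smul_mul_assoc, one_mul, hAD] at h'
      rw [← mul_smul_comm, smul_sub, smul_smul, haa, one_smul] at h'
      have hce : Commute (A₀ ^ D - a • 1) e := (hc'.pow_left D).sub_left ((Commute.one_left e).smul_left a)
      rw [hce.eq, ← neg_sub, mul_neg, h', neg_zero]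
    have h7 : A₀ ^ D - a • 1 = 0 := by
      calc A₀ ^ D - a • 1 = (A₀ ^ D - a • 1) * (1 - e) + (A₀ ^ D - a • 1) * e := by
            rw [← mul_add, sub_add_cancel, mul_one]
        _ = 0 := by rw [h5, h6, add_zero]
    exact sub_eq_zero.1 h7

end Cfsg.Agent.Spectrum
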