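import Cfsg.Agent.Spectrum.SUBasic

/-!
Eigenvalue structure of unitary matrices without a commuting orthogonal decomposition.
-/

set_option autoImplicit false

namespace Cfsg.Agent.Spectrum

open Polynomial Cfsg.Agent.Classical Matrix

variable {F : Type*} [Field F] [Fintype F] {σ : F →+* F} {n q : ℕ}

/-- The conjugate reciprocal. -/
noncomputable def crev (σ : F →+* F) (f : F[X]) : F[X] := (f.map σ).reverse

theorem crev_aeval_zero (hσ : Herm.IsInvol σ) {A : Matrix (Fin n) (Fin n) F} (hA : uadj σ A * A = 1) {P : F[X]}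
    (h : aeval A P = 0) : aeval A (crev σ P) = 0 := by
  have h1 : aeval (uadj σ A) (P.map σ) = 0 := by rw [← uadj_aeval, h, uadj_zero]
  rw [crev, aeval_reverse_mul' (mul_eq_one_comm.1 hA), h1, mul_zero]

omit [Fintype F] in
theorem crev_pow (f : F[X]) (k : ℕ) : crev σ (f ^ k) = crev σ f ^ k := by
  induction k with
  | zero => rw [pow_zero, pow_zero, crev, Polynomial.map_one, ← C_1, reverse_C]
  | succ k ih =>
    have : crev σ (f ^ k * f) = crev σ (f ^ k) * crev σ f := by
      simp only [crev, Polynomial.map_mul, reverse_mul_of_domain]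
    rw [pow_succ, this, ih, pow_succ]

/-- An idempotent piece carried by a self-adjoint idempotent. -/
theorem unitary_structure (hn : 1 ≤ n) (hσ : Herm.IsInvol σ) {A : Matrix (Fin n) (Fin n) F}
    (hA : uadj σ A * A = 1) :
    (∃ e₀ : Matrix (Fin n) (Fin n) F, uadj σ e₀ = e₀ ∧ e₀ * e₀ = e₀ ∧ e₀ ≠ 0 ∧ e₀ ≠ 1 ∧ Commute A e₀) ∨
      ∃ (f : F[X]) (a : ℕ), f.Monic ∧ Irreducible f ∧ ¬ f ∣ X ∧ a ≤ n ∧
        ((f ∣ crev σ f ∧ aeval A (f ^ a) = 0) ∨
          ∃ e : Matrix (Fin n) (Fin n) F, Commute A e ∧ e * e = e ∧ e + uadj σ e = 1 ∧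
            aeval A (f ^ a) * (1 - e) = 0) := by
  classical
  haveI : Nonempty (Fin n) := ⟨⟨0, hn⟩⟩
  have hm : (minpoly F A).Monic := minpoly.monic A.isIntegral
  obtain ⟨f, hfm, hf, hfd⟩ := Polynomial.exists_monic_irreducible_factor _ (minpoly.not_isUnit F A)
  obtain ⟨a, b, hfb, hb⟩ := WfDvdMonoid.max_power_factor hm.ne_zero hf
  have ha : a ≠ 0 := by
    rintro rfl
    rw [pow_zero, one_mul] at hb
    exact hfb (hb ▸ hfd)
  have hdeg : (minpoly F A).natDegree ≤ n := by
    refine (natDegree_le_of_dvd A.minpoly_dvd_charpoly A.charpoly_monic.ne_zero).trans ?_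
    rw [A.charpoly_natDegree_eq_dim, Fintype.card_fin]
  have hb0 : b ≠ 0 := fun h => hm.ne_zero (by rw [hb, h, mul_zero])
  rw [hb, natDegree_mul (pow_ne_zero _ hf.ne_zero) hb0, natDegree_pow] at hdeg
  have han : a ≤ n := by
    have : a * 1 ≤ a * f.natDegree := Nat.mul_le_mul_left a hf.natDegree_pos
    omega
  have hfX : ¬ f ∣ X := fun h => by
    obtain ⟨r, hr⟩ := ((hf.associated_of_dvd irreducible_X h).dvd_iff_dvd_left.1 hfd)
    have hr0 : r ≠ 0 := fun h => hm.ne_zero (by rw [hr, h, mul_zero])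
    have h1 : A * aeval A r = 0 := by
      have := minpoly.aeval F A
      rwa [hr, map_mul, aeval_X] at this
    have h2' : aeval A r = 0 := by
      have := congrArg (uadj σ A * ·) h1
      simpa [← mul_assoc, hA] using this
    have h3 := natDegree_le_of_dvd (minpoly.dvd F A h2') hr0
    rw [hr, natDegree_mul X_ne_zero hr0, natDegree_X] at h3
    omega
  by_cases hub : IsUnit b
  · have h0 : aeval A (f ^ a) = 0 := by
      refine aeval_eq_zero_of_dvd_aeval_eq_zero ?_ (minpoly.aeval F A)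
      rw [hb]; exact (hub.mul_right_dvd).2 dvd_rfl
    have h3 : f ∣ crev σ (f ^ a) := hfd.trans (minpoly.dvd F A (crev_aeval_zero hσ hA h0))
    rw [crev_pow] at h3
    exact Or.inr ⟨f, a, hfm, hf, hfX, han, Or.inl ⟨hf.prime.dvd_of_dvd_pow h3, h0⟩⟩
  obtain ⟨x, y, hxy⟩ := ((hf.coprime_iff_not_dvd).mpr hfb).pow_left (m := a)
  have h0 : ∀ R : F[X], aeval A ((f ^ a * b) * R) = 0 := fun R =>
    aeval_eq_zero_of_dvd_aeval_eq_zero ⟨R, by rw [hb]⟩ (minpoly.aeval F A)
  set e := aeval A (x * f ^ a) with he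
  have hee : e * e = e := by
    rw [he, ← map_mul, show (x * f ^ a) * (x * f ^ a) = x * f ^ a - (f ^ a * b) * (x * y) by
      linear_combination (x * f ^ a) * hxy, map_sub, h0, sub_zero]
  have hbe : aeval A b * e = 0 := by
    rw [he, ← map_mul, show b * (x * f ^ a) = (f ^ a * b) * x by ring, h0]
  have hfe : aeval A (f ^ a) * (1 - e) = 0 := by
    rw [he, ← map_one (aeval (R := F) A), ← map_sub, ← map_mul,
      show f ^ a * (1 - x * f ^ a) = (f ^ a * b) * y by linear_combination (-(f ^ a)) * hxy, h0]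
  have hpoly : ∀ (R : F[X]) (Y : Matrix (Fin n) (Fin n) F), Commute A Y → Commute (aeval A R) Y := fun R Y hY => by
    rw [aeval_eq_sum_range]
    exact Commute.sum_left _ _ _ fun i _ => (hY.pow_left i).smul_left _
  have hce : Commute A e := (hpoly _ A (Commute.refl A)).symm
  have hAA : Commute A (uadj σ A) := show A * uadj σ A = uadj σ A * A by rw [hA, mul_eq_one_comm.1 hA]
  have hce' : Commute A (uadj σ e) := by
    rw [he, uadj_aeval, aeval_eq_sum_range]
    exact Commute.sum_right _ _ _ fun i _ => (hAA.pow_right i).smul_right _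
  have hee' : Commute e (uadj σ e) := hpoly _ _ hce'
  have hPP' : uadj σ e * uadj σ e = uadj σ e := by rw [← uadj_mul, hee]
  set e₁ := e * uadj σ e with he₁
  set e₂ := e + uadj σ e - e * uadj σ e with he₂
  have h1ad : uadj σ e₁ = e₁ := by rw [he₁, uadj_mul, uadj_uadj hσ]
  have h2ad : uadj σ e₂ = e₂ := by rw [he₂, uadj_sub, uadj_add, uadj_uadj hσ, ← he₁, h1ad]; abel
  have h1id : e₁ * e₁ = e₁ := by rw [he₁, hee'.symm.mul_mul_mul_comm, hee, hPP']
  have hx1 : e * e₁ = e₁ := by rw [he₁, ← mul_assoc, hee]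
  have hx2 : uadj σ e * e₁ = e₁ := by rw [he₁, ← mul_assoc, hee'.symm.eq, mul_assoc, hPP']
  have hx3 : e₁ * e = e₁ := by rw [he₁, mul_assoc, hee'.symm.eq, ← mul_assoc, hee]
  have hx4 : e₁ * uadj σ e = e₁ := by rw [he₁, mul_assoc, hPP']
  have h2id : e₂ * e₂ = e₂ := by
    rw [he₂, ← he₁]
    simp only [add_mul, mul_add, sub_mul, mul_sub, hee, hPP', hee'.symm.eq, ← he₁, hx1, hx2, hx3, hx4, h1id]
    abel
  by_cases c1 : e₁ ≠ 0 ∧ e₁ ≠ 1
  · exact Or.inl ⟨e₁, h1ad, h1id, c1.1, c1.2, hce.mul_right hce'⟩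
  by_cases c2 : e₂ ≠ 0 ∧ e₂ ≠ 1
  · exact Or.inl ⟨e₂, h2ad, h2id, c2.1, c2.2, (hce.add_right hce').sub_right (hce.mul_right hce')⟩
  have he0 : e ≠ 0 := fun h => by
    rw [h, sub_zero, mul_one] at hfe
    have hd := minpoly.dvd F A hfe
    rw [hb] at hd
    exact hub (isUnit_of_dvd_one ((mul_dvd_mul_iff_left (pow_ne_zero a hf.ne_zero)).1 (by rwa [mul_one])))
  have he1 : e ≠ 1 := fun h => by
    rw [h, mul_one] at hbe
    have hd := minpoly.dvd F A hbe
    rw [hb] at hd
    exact hfb ((dvd_pow_self f ha).trans ((dvd_mul_right _ b).trans hd))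
  have hne1 : e₁ ≠ 1 := fun h => he1 (by
    have := congrArg (e * ·) h
    simp only [hx1, mul_one] at this
    rw [← this, h])
  have hz1 : e₁ = 0 := by
    by_contra h
    exact c1 ⟨h, hne1⟩
  have hz2 : e₂ ≠ 0 := fun h => he0 (by
    have h' := congrArg (e * ·) h
    simp only [he₂, mul_sub, mul_add, hee, ← he₁, hx1, mul_zero] at h'
    simpa using h')
  have hsum : e + uadj σ e = 1 := by
    have h : e₂ = 1 := by_contra fun h => c2 ⟨hz2, h⟩
    rw [he₂, ← he₁, hz1, sub_zero] at h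
    exact h
  exact Or.inr ⟨f, a, hfm, hf, hfX, han, Or.inr ⟨e, hce, hee, hsum, hfe⟩⟩

/-- Roots of a conjugate-self-reciprocal irreducible polynomial. -/
theorem crev_cases {p : ℕ} [Fact p.Prime] [CharP F p] {i₀ : ℕ} (hq : q = p ^ i₀) (hF : Fintype.card F = q ^ 2)
    (hσq : ∀ x, σ x = x ^ q) {f : F[X]} (hfm : f.Monic) (hf : Irreducible f) (hX : ¬ f ∣ X)
    (hr : f ∣ crev σ f) :
    Odd f.natDegree ∧ f ∣ X ^ (q ^ f.natDegree + 1) - 1 := by
  haveI := Fact.mk hf
  haveI : Module.Finite F (AdjoinRoot f) := (AdjoinRoot.powerBasis hf.ne_zero).finite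
  haveI : Finite (AdjoinRoot f) := Module.finite_of_finite F
  haveI : CharP (AdjoinRoot f) p := charP_of_injective_algebraMap (algebraMap F (AdjoinRoot f)).injective p
  let φ : AdjoinRoot f →+* AdjoinRoot f := iterateFrobenius (AdjoinRoot f) p i₀
  have hφ : ∀ x, φ x = x ^ q := fun x => by rw [hq]; exact iterateFrobenius_def ..
  set z := AdjoinRoot.root f with hz
  have hzf : aeval z f = 0 := by rw [AdjoinRoot.aeval_eq, AdjoinRoot.mk_self]
  have hz0 : z ≠ 0 := fun h => hX (by
    rw [← AdjoinRoot.mk_eq_zero, ← AdjoinRoot.aeval_eq, aeval_X, ← hz, h])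
  have hdvd : ∀ P : F[X], aeval z P = 0 → f ∣ P := fun P hP => by
    rwa [← AdjoinRoot.mk_eq_zero, ← AdjoinRoot.aeval_eq]
  have hinv : aeval z⁻¹ (f.map σ) = 0 := by
    have h1 : aeval z (f.map σ).reverse = 0 := by
      obtain ⟨r, hr'⟩ := hr
      rw [← crev, hr', map_mul, hzf, zero_mul]
    letI : Invertible z⁻¹ := invertibleOfNonzero (inv_ne_zero hz0)
    have h := (Polynomial.eval₂_reverse_eq_zero_iff (algebraMap F (AdjoinRoot f)) z⁻¹ (f.map σ)).1
    rw [invOf_eq_inv, inv_inv] at h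
    exact h h1
  have hroot : aeval (z⁻¹ ^ q) f = 0 := by
    have h := congrArg φ hinv
    rw [aeval_def, Polynomial.hom_eval₂, Polynomial.eval₂_map, map_zero] at h
    rw [show (φ.comp (algebraMap F (AdjoinRoot f))).comp σ = algebraMap F (AdjoinRoot f) from RingHom.ext fun x => by
      rw [RingHom.comp_apply, RingHom.comp_apply, hφ, ← map_pow, hσq, ← pow_mul, ← pow_two, ← hF,
        FiniteField.pow_card], hφ] at h
    exact h
  let pb := AdjoinRoot.powerBasis hf.ne_zero
  have hgen : pb.gen = z := AdjoinRoot.powerBasis_gen hf.ne_zero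
  have hk : Module.finrank F (AdjoinRoot f) = f.natDegree := by
    rw [pb.finrank, AdjoinRoot.powerBasis_dim]
  let τ : AdjoinRoot f →ₐ[F] AdjoinRoot f := pb.lift (z⁻¹ ^ q) (by
    rw [AdjoinRoot.minpoly_powerBasis_gen_of_monic hfm]; exact hroot)
  have hτz : τ z = z⁻¹ ^ q := by
    have h : τ pb.gen = z⁻¹ ^ q := pb.lift_gen _ _
    rwa [hgen] at h
  have hττ : τ ^ 2 = FiniteField.frobeniusAlgHom F (AdjoinRoot f) := pb.algHom_ext (by
    rw [hgen, pow_two, AlgHom.mul_apply, hτz, map_pow, map_inv₀, hτz, FiniteField.coe_frobeniusAlgHom, hF]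
    rw [← inv_pow, inv_inv, ← pow_mul, pow_two])
  obtain ⟨⟨i, hi⟩, hi' : FiniteField.frobeniusAlgHom F (AdjoinRoot f) ^ i = τ⟩ :=
    (FiniteField.bijective_frobeniusAlgHom_pow F (AdjoinRoot f)).2 τ
  have hpow : z ^ (q ^ (2 * i)) = z⁻¹ ^ q := by
    rw [← hτz, ← hi', AlgHom.coe_pow, FiniteField.coe_frobeniusAlgHom, pow_iterate, hF, ← pow_mul]
  have h2i : ((Module.finrank F (AdjoinRoot f) : ℕ) : ℤ) ∣ 2 * (i : ℤ) - 1 := by
    have e : FiniteField.frobeniusAlgHom F (AdjoinRoot f) ^ (2 * i) =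
        FiniteField.frobeniusAlgHom F (AdjoinRoot f) ^ 1 := by
      rw [mul_comm, pow_mul, hi', hττ, pow_one]
    have hfin : IsOfFinOrder (FiniteField.frobeniusAlgHom F (AdjoinRoot f)) := by
      rw [← orderOf_pos_iff, FiniteField.orderOf_frobeniusAlgHom]; exact Module.finrank_pos
    have h := (hfin.pow_eq_pow_iff_modEq).1 e
    rw [FiniteField.orderOf_frobeniusAlgHom, Nat.modEq_iff_dvd] at h
    push_cast at h
    have := h.neg_right
    simpa using this
  rw [hk] at h2i hi
  have hzq : φ (z ^ (q ^ f.natDegree + 1)) = 1 → f ∣ X ^ (q ^ f.natDegree + 1) - 1 := fun h => hdvd _ (by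
    rw [map_sub, map_pow, aeval_X, map_one, sub_eq_zero]
    exact φ.injective (h.trans (map_one φ).symm))
  rcases Nat.eq_zero_or_pos i with rfl | hi0
  · have h1 : f.natDegree = 1 := by
      simp only [Nat.cast_zero, mul_zero, zero_sub, dvd_neg] at h2i
      exact Nat.dvd_one.1 (by exact_mod_cast h2i)
    refine ⟨h1 ▸ odd_one, hzq ?_⟩
    rw [mul_zero, pow_zero, pow_one] at hpow
    have h2 : z ^ (q + 1) = 1 := by
      rw [pow_succ]; nth_rewrite 2 [hpow]; rw [← mul_pow, mul_inv_cancel₀ hz0, one_pow]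
    rw [h1, pow_one, h2, map_one]
  · have h3 : f.natDegree ∣ 2 * i - 1 := by
      have : ((2 * i - 1 : ℕ) : ℤ) = 2 * (i : ℤ) - 1 := by rw [Nat.cast_sub (by omega)]; push_cast; ring
      rw [← this] at h2i
      exact_mod_cast h2i
    have h4 : 2 * i - 1 = f.natDegree := by
      obtain ⟨t, ht⟩ := h3
      rcases t with _ | _ | t
      · omega
      · simpa using ht
      · nlinarith [Nat.sub_add_cancel (show 1 ≤ 2 * i by omega)]
    refine ⟨⟨i - 1, by omega⟩, hzq ?_⟩
    rw [hφ, ← pow_mul, add_mul, one_mul, pow_add, ← pow_succ, show f.natDegree + 1 = 2 * i by omega, hpow,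
      ← mul_pow, inv_mul_cancel₀ hz0, one_pow]

/-- The dimensions of the two isotropic halves. -/
theorem finrank_range_le_half {e : Matrix (Fin n) (Fin n) F} (hσinj : Function.Injective σ)
    (h : uadj σ e * e = 0) :
    2 * Module.finrank F (LinearMap.range (Matrix.toLin' e)) ≤ n := by
  set U := LinearMap.range (Matrix.toLin' e)
  set W := LinearMap.range (Matrix.toLin' (e.map σ))
  have hW : ∀ u ∈ U, (σ ∘ u) ∈ W := by
    rintro _ ⟨v, rfl⟩
    refine ⟨σ ∘ v, ?_⟩
    funext i
    rw [Matrix.toLin'_apply, Matrix.toLin'_apply, Function.comp_apply, RingHom.map_mulVec]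
  have hle : Nat.card U ≤ Nat.card W := Nat.card_le_card_of_injective (fun u => ⟨σ ∘ u.1, hW u.1 u.2⟩)
    fun u v huv => Subtype.ext (hσinj.comp_left (congrArg Subtype.val huv))
  rw [Module.natCard_eq_pow_finrank (K := F) (V := U), Module.natCard_eq_pow_finrank (K := F) (V := W),
    Nat.pow_le_pow_iff_right Finite.one_lt_card] at hle
  have hk : U ≤ LinearMap.ker (Matrix.toLin' (uadj σ e)) := by
    rintro _ ⟨v, rfl⟩
    rw [LinearMap.mem_ker, ← LinearMap.comp_apply, ← Matrix.toLin'_mul, h]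
    simp
  have h1 := Submodule.finrank_mono hk
  have h2 := (Matrix.toLin' (uadj σ e)).finrank_range_add_finrank_ker
  rw [Module.finrank_fin_fun] at h2
  have h3 : Module.finrank F (LinearMap.range (Matrix.toLin' (uadj σ e))) = Module.finrank F W := by
    show (uadj σ e).rank = (e.map σ).rank
    exact Matrix.rank_transpose _
  omega

/-- The determinant on the half killed by an irreducible polynomial. -/
theorem det_pair (hn : 1 ≤ n) (hσ : Herm.IsInvol σ) {A : Matrix (Fin n) (Fin n) F} (hA : uadj σ A * A = 1)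
    {e : Matrix (Fin n) (Fin n) F} (hc : Commute A e) (hee : e * e = e) (hsum : e + uadj σ e = 1) {f : F[X]}
    (hfm : f.Monic) (hf : Irreducible f) (hfA : aeval A f * (1 - e) = 0) :
    ∃ j : ℕ, n = 2 * j ∧ f.natDegree ∣ j ∧
      ∀ G : Matrix (Fin j) (Fin j) F, aeval G f = 0 → A.det * σ G.det = G.det := by
  classical
  have hadj : uadj σ e = 1 - e := eq_sub_of_add_eq' hsum
  have he' : (1 - e) * (1 - e) = 1 - e := by rw [sub_mul, one_mul, mul_sub, mul_one, hee, sub_self, sub_zero]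
  have hσinj : Function.Injective σ := σ.injective
  set L := Matrix.toLin' e
  set U := LinearMap.range (Matrix.toLin' (1 - e))
  set U' := LinearMap.range L
  have hU : ∀ x, x ∈ U ↔ e *ᵥ x = 0 := fun x => by
    constructor
    · rintro ⟨v, rfl⟩
      rw [Matrix.toLin'_apply, Matrix.mulVec_mulVec, mul_sub, mul_one, hee, sub_self, Matrix.zero_mulVec]
    · intro h
      exact ⟨x, by rw [Matrix.toLin'_apply, Matrix.sub_mulVec, Matrix.one_mulVec, h, sub_zero]⟩
  have hU' : ∀ x, x ∈ U' ↔ e *ᵥ x = x := fun x => by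
    constructor
    · rintro ⟨v, rfl⟩
      rw [Matrix.toLin'_apply, Matrix.mulVec_mulVec, hee]
    · intro h
      exact ⟨x, by rw [Matrix.toLin'_apply, h]⟩
  have hcompl : IsCompl U U' := by
    refine ⟨disjoint_iff_inf_le.2 fun x hx => ?_, codisjoint_iff_le_sup.2 fun x _ => ?_⟩
    · rw [Submodule.mem_bot, ← (hU' x).1 hx.2, (hU x).1 hx.1]
    · refine Submodule.mem_sup.2 ⟨(1 - e) *ᵥ x, ⟨x, rfl⟩, e *ᵥ x, ⟨x, rfl⟩, ?_⟩
      rw [← Matrix.add_mulVec, sub_add_cancel, Matrix.one_mulVec]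
  obtain ⟨j, hj⟩ : ∃ j, Module.finrank F U = j := ⟨_, rfl⟩
  have hnj : n = 2 * j := by
    have h1 := finrank_range_le_half hσinj (e := e) (by rw [hadj, sub_mul, one_mul, hee, sub_self])
    have h2 := finrank_range_le_half hσinj (e := 1 - e) (by
      rw [uadj_sub, uadj_one, hadj, sub_sub_cancel, mul_sub, mul_one, hee, sub_self])
    have h3 := Submodule.finrank_add_eq_of_isCompl hcompl
    rw [Module.finrank_fin_fun, hj] at h3
    change 2 * Module.finrank F U' ≤ n at h1
    change 2 * Module.finrank F U ≤ n at h2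
    omega
  have hAU : ∀ x ∈ U, Matrix.toLin' A x ∈ U := fun x hx => by
    rw [hU, Matrix.toLin'_apply, Matrix.mulVec_mulVec, ← hc.eq, ← Matrix.mulVec_mulVec, (hU x).1 hx,
      Matrix.mulVec_zero]
  set R := (Matrix.toLin' A).restrict hAU
  let bU : Module.Basis (Fin j) F U := Module.finBasisOfFinrankEq F U hj
  have hR : aeval R f = 0 := by
    refine LinearMap.ext fun x => Subtype.ext ?_
    have key : ((aeval R f) x : Fin n → F) = aeval A f *ᵥ x.1 := by
      rw [aeval_eq_sum_range (p := f) R, aeval_eq_sum_range (p := f) A, Matrix.sum_mulVec]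
      simp only [LinearMap.sum_apply, LinearMap.smul_apply, Submodule.coe_sum, Submodule.coe_smul, Matrix.smul_mulVec]
      refine Finset.sum_congr rfl fun i _ => congrArg _ ?_
      rw [Module.End.pow_restrict, LinearMap.restrict_coe_apply, ← Matrix.toLin'_pow, Matrix.toLin'_apply]
    rw [key]
    obtain ⟨v, hv⟩ := x.2
    rw [← hv, Matrix.toLin'_apply, Matrix.mulVec_mulVec, hfA, Matrix.zero_mulVec]
    rfl
  have hRm : aeval (LinearMap.toMatrixAlgEquiv bU R) f = 0 := by rw [aeval_algEquiv, AlgHom.comp_apply, hR]; exact map_zero _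
  haveI : Nonempty (Fin j) := ⟨⟨0, by omega⟩⟩
  refine ⟨j, hnj, ?_, fun G hG => ?_⟩
  · have := natDegree_dvd_card_of_aeval_irreducible hfm hf hRm
    rwa [Fintype.card_fin] at this
  have hdG : LinearMap.det R = G.det := by
    rw [← LinearMap.det_toMatrix bU]
    exact det_eq_of_aeval_irreducible hfm hf hRm hG
  set T := A * (1 - e) + e with hT
  set T' := A * e + (1 - e) with hT'
  have hdT : T.det = G.det := by
    rw [← hdG, ← LinearMap.det_toLin']
    let E := Submodule.prodEquivOfIsCompl U U' hcompl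
    have hT : Matrix.toLin' T = (E : U × U' →ₗ[F] (Fin n → F)) ∘ₗ (R.prodMap (LinearMap.id : U' →ₗ[F] U')) ∘ₗ
        (E.symm : (Fin n → F) →ₗ[F] U × U') := LinearMap.ext fun x => by
      obtain ⟨⟨u, w⟩, rfl⟩ := E.surjective x
      simp only [LinearMap.comp_apply, LinearEquiv.coe_coe, LinearEquiv.symm_apply_apply, LinearMap.prodMap_apply,
        LinearMap.id_apply]
      show T *ᵥ ((u : Fin n → F) + w) = (R u : Fin n → F) + w
      rw [Matrix.mulVec_add, hT, Matrix.add_mulVec, Matrix.add_mulVec, ← Matrix.mulVec_mulVec, ← Matrix.mulVec_mulVec,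
        Matrix.sub_mulVec, Matrix.sub_mulVec, Matrix.one_mulVec, Matrix.one_mulVec, (hU _).1 u.2, (hU' _).1 w.2,
        sub_zero, sub_self, Matrix.mulVec_zero, add_zero, zero_add, LinearMap.restrict_coe_apply, Matrix.toLin'_apply]
    rw [hT, LinearMap.det_conj, LinearMap.det_prodMap, LinearMap.det_id, mul_one]
  have hAe : Commute A (1 - e) := (Commute.one_right A).sub_right hc
  have hadjT' : uadj σ T' * T = 1 := by
    have e1 : uadj σ T' = (1 - e) * uadj σ A + e := by
      rw [hT', uadj_add, uadj_mul, uadj_sub, uadj_one, hadj, sub_sub_cancel]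
    rw [e1, hT, add_mul, mul_add, mul_add]
    rw [show (1 - e) * uadj σ A * (A * (1 - e)) = (1 - e) * ((uadj σ A * A) * (1 - e)) by noncomm_ring, hA, one_mul, he',
      show e * (A * (1 - e)) = A * (e * (1 - e)) by rw [← mul_assoc, ← hc.eq, mul_assoc],
      show e * (1 - e) = 0 by rw [mul_sub, mul_one, hee, sub_self], mul_zero, hee,
      show (1 - e) * uadj σ A * e = 0 from ?_]
    · abel
    · have hc' : Commute (uadj σ A) e := by
        have h := congrArg (fun M => uadj σ A * M * uadj σ A) hc.eq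
        rw [← mul_assoc, hA, one_mul, mul_assoc, mul_assoc, mul_eq_one_comm.1 hA, mul_one] at h
        exact h.symm
      rw [mul_assoc, hc'.eq, ← mul_assoc, sub_mul, one_mul, hee, sub_self, zero_mul]
  have hTT' : T * T' = A := by
    rw [hT, hT', add_mul, mul_add, mul_add,
      show A * (1 - e) * (A * e) = A * A * ((1 - e) * e) by
        rw [mul_assoc, ← mul_assoc (1 - e), ← hAe.eq]; noncomm_ring,
      show (1 - e) * e = 0 by rw [sub_mul, one_mul, hee, sub_self], mul_zero, zero_add,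
      mul_assoc A (1 - e), he', ← mul_assoc, ← hc.eq, mul_assoc, hee, mul_sub e, mul_one, hee, sub_self, add_zero]
    noncomm_ring
  have hd1 : σ T'.det * G.det = 1 := by
    rw [← hdT, ← det_uadj, ← Matrix.det_mul, hadjT', Matrix.det_one]
  have hd2 : T'.det * σ G.det = 1 := by
    have := congrArg σ hd1
    rwa [map_mul, map_one, hσ.invol] at this
  rw [← hTT', Matrix.det_mul, hdT, mul_assoc, hd2, mul_one]

end Cfsg.Agent.Spectrum
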