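import Cfsg.Agent.Spectrum.SpBasic
import Cfsg.Agent.Spectrum.Orders

/-!
Particular isometries of alternating spaces: the two kinds of Singer elements, regular unipotent elements.
-/

set_option autoImplicit false

namespace Cfsg.Agent.Spectrum

open Module Cfsg.Agent.Classical

universe u

variable (F : Type u) [Field F] [Fintype F]

/-- An alternating space of dimension `2k` with an isometry of order `N` whose powers are scalar only if they are
scalars of the extension. -/
def HasIso (k N : ℕ) : Prop :=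
  ∃ g : Alt.isoGroup (sympB k F), orderOf g.1 = N

variable {F}

theorem scalarPow_one_or_neg {V : Type*} [AddCommGroup V] [Module F V] {g : V ≃ₗ[F] V} {d : ℕ}
    (h : ScalarPow g d) : g ^ (2 * d) = 1 := by
  obtain ⟨c, hc, hx⟩ := h
  refine LinearEquiv.ext fun x => ?_
  rw [two_mul, pow_add, LinearEquiv.mul_apply, hx, hx, smul_smul, hc, one_smul]
  rfl

theorem hasIso_of {V : Type*} [AddCommGroup V] [Module F V] [FiniteDimensional F V] {B : LinearMap.BilinForm F V}
    (hA : B.IsAlt) (hN : B.Nondegenerate) {k : ℕ} (hV : finrank F V = 2 * k) (g : Alt.isoGroup B) :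
    HasIso F k (orderOf g.1) := by
  obtain ⟨φ, hφ⟩ := Embed.exists_hom_symplectic hV B hA (fun x hx => hN.1 x hx)
    (Alt.isoGroup B).subtype (Alt.isoGroup B).subtype_injective fun g x y => g.2 x y
  refine ⟨spEquiv k F (φ g), ?_⟩
  rw [Subgroup.orderOf_coe, MulEquiv.orderOf_eq, orderOf_injective φ hφ,
    ← Subgroup.orderOf_coe]

theorem pow_prime_pow_odd (p : ℕ) [Fact p.Prime] [CharP F p] (h2 : (2 : F) ≠ 0) {c : F} (hc : c * c = 1) {e : ℕ}
    (h : c ^ p ^ e = 1) : c = 1 := by
  rcases mul_self_eq_one_iff.1 hc with rfl | rfl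
  · rfl
  · exfalso
    have hodd : Odd (p ^ e) := ((Fact.out : p.Prime).odd_of_ne_two fun hp => h2 (by
      subst hp; exact CharTwo.two_eq_zero)).pow
    rw [hodd.neg_one_pow] at h
    exact h2 (by linear_combination -h)

/-- The order `q ^ k - 1`. -/
theorem hasIso_split (p : ℕ) [Fact p.Prime] [CharP F p] {k : ℕ} (hk : 1 ≤ k) :
    HasIso F k (Fintype.card F ^ k - 1) := by
  haveI : NeZero k := ⟨by omega⟩
  let E := FiniteField.Extension F p k
  obtain ⟨z, hz⟩ := IsCyclic.exists_ofOrder_eq_natCard (α := Eˣ)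
  let B : LinearMap.BilinForm F (E × E) := LinearMap.mk₂ F
    (fun x y => Algebra.trace F E (x.1 * y.2 - x.2 * y.1))
    (fun x y w => by simp [add_mul]; abel)
    (fun c x y => by simp [Algebra.smul_mul_assoc, mul_sub])
    (fun x y w => by simp [mul_add]; abel)
    (fun c x y => by simp [Algebra.mul_smul_comm, mul_sub])
  have hB : ∀ x y, B x y = Algebra.trace F E (x.1 * y.2 - x.2 * y.1) := fun x y => rfl
  have hA : B.IsAlt := fun x => by rw [hB, mul_comm, sub_self, map_zero]
  have hN : B.Nondegenerate := (hA.isRefl.nondegenerate_iff_separatingLeft).2 fun x hx => by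
    refine Prod.ext ((traceForm_nondegenerate F E).1 x.1 fun y => ?_) ((traceForm_nondegenerate F E).1 x.2 fun y => ?_)
    · simpa [hB, Algebra.traceForm_apply] using hx (0, y)
    · simpa [hB, Algebra.traceForm_apply] using hx (y, 0)
  let m : Eˣ →* (E ≃ₗ[F] E) :=
    { toFun := fun u =>
        { toFun := fun x => (u : E) * x
          invFun := fun x => (u⁻¹ : Eˣ) * x
          map_add' := mul_add _
          map_smul' := fun c x => mul_smul_comm c _ _
          left_inv := fun x => by simp
          right_inv := fun x => by simp }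
      map_one' := LinearEquiv.ext fun x => one_mul x
      map_mul' := fun u w => LinearEquiv.ext fun x => mul_assoc _ _ _ }
  let ρ : Eˣ →* ((E × E) ≃ₗ[F] (E × E)) :=
    { toFun := fun u => (m u).prodCongr (m u⁻¹)
      map_one' := by rw [inv_one, map_one]; rfl
      map_mul' := fun u w => by rw [mul_inv, map_mul, map_mul]; rfl }
  suffices h : ∃ g : Alt.isoGroup B, orderOf g.1 = Fintype.card F ^ k - 1 by
    obtain ⟨g, hg⟩ := h
    exact hg ▸ hasIso_of hA hN (by rw [Module.finrank_prod, FiniteField.finrank_extension]; ring) g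
  refine ⟨⟨ρ z, fun x y => ?_⟩, ?_⟩
  · rw [hB, hB]
    congr 1
    show (z : E) * x.1 * ((z⁻¹ : Eˣ) * y.2) - (z⁻¹ : Eˣ) * x.2 * ((z : E) * y.1) = _
    linear_combination (x.1 * y.2 - x.2 * y.1) * z.mul_inv
  · show orderOf (ρ z) = _
    rw [orderOf_injective ρ (fun u w h => Units.ext (by
      have := congrArg (fun f : (E × E) ≃ₗ[F] (E × E) => (f (1, 1)).1) h
      simpa [ρ, m] using this)) z, hz, Nat.card_units, FiniteField.natCard_extension, Nat.card_eq_fintype_card]

/-- The order `q ^ k + 1`. -/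
theorem hasIso_normOne (p : ℕ) [Fact p.Prime] [CharP F p] (h2 : (2 : F) ≠ 0) {k : ℕ} (hk : 1 ≤ k) :
    HasIso F k (Fintype.card F ^ k + 1) := by
  haveI : NeZero (2 * k) := ⟨by omega⟩
  let K := FiniteField.Extension F p (2 * k)
  haveI : Fintype K := Fintype.ofFinite K
  have hcK : Fintype.card K = Fintype.card F ^ (2 * k) := by
    rw [← Nat.card_eq_fintype_card, FiniteField.natCard_extension, Nat.card_eq_fintype_card]
  set Q := Fintype.card F ^ k with hQ
  let bar : K →ₐ[F] K := (FiniteField.frobeniusAlgHom F K) ^ k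
  have hbar : ∀ x, bar x = x ^ Q := fun x => by
    show ((FiniteField.frobeniusAlgHom F K) ^ k) x = _
    rw [AlgHom.coe_pow, FiniteField.coe_frobeniusAlgHom, hQ, pow_iterate]
  have hbb : ∀ x, bar (bar x) = x := fun x => by
    rw [hbar, hbar, ← pow_mul, hQ, ← pow_add, ← two_mul, ← hcK, FiniteField.pow_card]
  obtain ⟨z₀, hz₀⟩ := IsCyclic.exists_ofOrder_eq_natCard (α := Kˣ)
  have hq1 : 1 < Q := Nat.one_lt_pow (by omega) Fintype.one_lt_card
  have hcard : orderOf z₀ = (Q - 1) * (Q + 1) := by
    rw [hz₀, Nat.card_units, FiniteField.natCard_extension, Nat.card_eq_fintype_card, two_mul, pow_add, ← hQ,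
      mul_comm (Q - 1), ← Nat.sq_sub_sq, one_pow, pow_two]
  obtain ⟨θ, hθ0, hθ⟩ : ∃ θ : K, θ ≠ 0 ∧ bar θ = -θ := by
    refine ⟨(z₀ : K) - bar z₀, fun h => ?_, by rw [map_sub, hbb]; ring⟩
    have h1 : z₀ ^ (Q - 1) = 1 := by
      have h3 : z₀ ^ Q = z₀ := Units.ext (by rw [Units.val_pow_eq_pow_val, ← hbar]; exact (sub_eq_zero.1 h).symm)
      rw [pow_sub z₀ hq1.le, pow_one, h3, mul_inv_cancel]
    have := Nat.le_of_dvd (by omega) (orderOf_dvd_of_pow_eq_one h1)
    rw [hcard] at this
    nlinarith [show 1 ≤ Q - 1 by omega]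
  obtain ⟨z, hz⟩ := exists_orderOf_eq_of_dvd (orderOf_pos z₀).ne' (hcard ▸ dvd_mul_left (Q + 1) (Q - 1))
  have hzbar : (z : K) * bar z = 1 := by
    rw [hbar, ← pow_succ', ← Units.val_pow_eq_pow_val, ← hz, pow_orderOf_eq_one, Units.val_one]
  let bare : K ≃ₐ[F] K := AlgEquiv.ofBijective bar ⟨bar.injective, fun x => ⟨bar x, hbb x⟩⟩
  have htr : ∀ x, Algebra.trace F K (bar x) = Algebra.trace F K x := fun x => Algebra.trace_eq_of_algEquiv bare x
  let B : LinearMap.BilinForm F K := LinearMap.mk₂ F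
    (fun x y => Algebra.trace F K (θ * (x * bar y)))
    (fun x y w => by rw [← map_add]; congr 1; ring)
    (fun c x y => by rw [← map_smul]; congr 1; simp [Algebra.smul_def]; ring)
    (fun x y w => by rw [← map_add]; congr 1; rw [map_add]; ring)
    (fun c x y => by rw [← map_smul]; congr 1; simp [Algebra.smul_def]; ring)
  have hB : ∀ x y, B x y = Algebra.trace F K (θ * (x * bar y)) := fun x y => rfl
  have hA : B.IsAlt := fun x => by
    have h := htr (θ * (x * bar x))
    rw [map_mul bar, map_mul bar, hbb, hθ, show -θ * (bar x * x) = -(θ * (x * bar x)) by ring, map_neg] at h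
    rw [hB]
    exact (mul_eq_zero.1 (by linear_combination -h : (2 : F) * Algebra.trace F K (θ * (x * bar x)) = 0)).resolve_left h2
  have hN : B.Nondegenerate := (hA.isRefl.nondegenerate_iff_separatingLeft).2 fun x hx => by
    have h0 : θ * x = 0 := (traceForm_nondegenerate F K).1 (θ * x) fun y => by
      have h := hx (bar y)
      rw [hB, hbb] at h
      rw [Algebra.traceForm_apply, mul_assoc]
      exact h
    exact (mul_eq_zero.1 h0).resolve_left hθ0
  let ρ : Kˣ →* (K ≃ₗ[F] K) :=
    { toFun := fun u =>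
        { toFun := fun x => (u : K) * x
          invFun := fun x => (u⁻¹ : Kˣ) * x
          map_add' := mul_add _
          map_smul' := fun c x => mul_smul_comm c _ _
          left_inv := fun x => by simp
          right_inv := fun x => by simp }
      map_one' := LinearEquiv.ext fun x => one_mul x
      map_mul' := fun u w => LinearEquiv.ext fun x => mul_assoc _ _ _ }
  suffices h : ∃ g : Alt.isoGroup B, orderOf g.1 = Q + 1 by
    obtain ⟨g, hg⟩ := h
    exact hg ▸ hasIso_of hA hN (FiniteField.finrank_extension F p (2 * k)) g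
  refine ⟨⟨ρ z, fun x y => ?_⟩, ?_⟩
  · rw [hB, hB]
    congr 1
    show θ * ((z : K) * x * bar ((z : K) * y)) = _
    rw [map_mul]
    linear_combination θ * x * bar y * hzbar
  · show orderOf (ρ z) = _
    rw [orderOf_injective ρ (fun u w h => Units.ext (by
      have := congrArg (fun f : K ≃ₗ[F] K => f 1) h
      simpa [ρ] using this)) z, hz]

/-- Regular unipotent elements. -/
theorem hasIso_unipotent (p : ℕ) [Fact p.Prime] [CharP F p] (h2 : (2 : F) ≠ 0) {k : ℕ} (hk : 1 ≤ k) :
    HasIso F k (p ^ Nat.clog p (2 * k)) := by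
  classical
  have hp : 1 < p := (Fact.out : p.Prime).one_lt
  set n := 2 * k with hn
  haveI : NeZero n := ⟨by omega⟩
  set N := shiftMatrix n F with hNdef
  let J : Matrix (Fin n) (Fin n) F := Matrix.of fun i j => if (i : ℕ) + j = n - 1 then (-1) ^ (i : ℕ) else 0
  have hJ : ∀ i j, J i j = if (i : ℕ) + j = n - 1 then (-1) ^ (i : ℕ) else 0 := fun i j => rfl
  have hJrow : ∀ (v : Fin n → F) (i : Fin n), (J.mulVec v) i = (-1) ^ (i : ℕ) * v i.rev := fun v i => by
    rw [Matrix.mulVec, dotProduct, Finset.sum_eq_single i.rev]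
    · rw [hJ, if_pos (by simp [Fin.val_rev]; omega)]
    · intro j _ hj
      rw [hJ, if_neg (fun h => hj (Fin.ext (by simp [Fin.val_rev]; omega))), zero_mul]
    · simp
  let B : LinearMap.BilinForm F (Fin n → F) := Matrix.toBilin' J
  have hJT : J.transpose = -J := by
    ext i j
    rw [Matrix.transpose_apply, Matrix.neg_apply, hJ, hJ, add_comm (j : ℕ)]
    split_ifs with h
    · have : (j : ℕ) + i = 2 * (k - 1) + 1 := by omega
      have e : (-1 : F) ^ (i : ℕ) * (-1) ^ (j : ℕ) = -1 := by
        rw [← pow_add, add_comm, this, pow_succ, pow_mul]; simp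
      have e2 : (-1 : F) ^ (i : ℕ) * (-1) ^ (i : ℕ) = 1 := by rw [← mul_pow]; simp
      linear_combination (-1 : F) ^ (i : ℕ) * e - (-1 : F) ^ (j : ℕ) * e2
    · simp
  have hA : B.IsAlt := fun v => by
    show Matrix.toBilin' J v v = 0
    rw [Matrix.toBilin'_apply']
    have h : dotProduct v (J.mulVec v) = -dotProduct v (J.mulVec v) := by
      conv_lhs => rw [Matrix.dotProduct_mulVec, ← Matrix.mulVec_transpose, hJT, Matrix.neg_mulVec, neg_dotProduct,
        dotProduct_comm]
    exact (mul_eq_zero.1 (by linear_combination h : (2 : F) * dotProduct v (J.mulVec v) = 0)).resolve_left h2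
  have hN : B.Nondegenerate := (hA.isRefl.nondegenerate_iff_separatingLeft).2 fun v hv => by
    funext j
    have h := hv (Pi.single j.rev.rev.rev 1)
    rw [show B v (Pi.single j.rev.rev.rev 1) = Matrix.toBilin' J v (Pi.single j.rev.rev.rev 1) from rfl,
      Matrix.toBilin'_apply', Matrix.dotProduct_mulVec, ← Matrix.mulVec_transpose, hJT, dotProduct_single, mul_one,
      Matrix.neg_mulVec, Pi.neg_apply, hJrow, neg_eq_zero, mul_eq_zero] at h
    simpa using h.resolve_left (pow_ne_zero _ (neg_ne_zero.2 one_ne_zero))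
  have hskew : N.transpose * J + J * N = 0 := by
    ext i j
    rw [Matrix.add_apply, Matrix.mul_apply, Matrix.mul_apply, Matrix.zero_apply]
    have e1 : ∑ l, N.transpose i l * J l j = if (i : ℕ) + j + 1 = n - 1 then (-1) ^ ((i : ℕ) + 1) else 0 := by
      by_cases hi : (i : ℕ) + 1 < n
      · rw [Finset.sum_eq_single (⟨i + 1, hi⟩ : Fin n)]
        · simp [hNdef, shiftMatrix, hJ, add_right_comm]
        · intro l _ hl
          simp [hNdef, shiftMatrix, show ¬ (l : ℕ) = i + 1 from fun h => hl (Fin.ext h)]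
        · simp
      · rw [Finset.sum_eq_zero fun l _ => by
          simp [hNdef, shiftMatrix, show ¬ (l : ℕ) = i + 1 by omega], if_neg (by omega)]
    have e2 : ∑ l, J i l * N l j = if (i : ℕ) + j + 1 = n - 1 then (-1) ^ (i : ℕ) else 0 := by
      by_cases hj : (j : ℕ) + 1 < n
      · rw [Finset.sum_eq_single (⟨j + 1, hj⟩ : Fin n)]
        · simp [hNdef, shiftMatrix, hJ, add_assoc]
        · intro l _ hl
          simp [hNdef, shiftMatrix, show ¬ (l : ℕ) = j + 1 from fun h => hl (Fin.ext h)]
        · simp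
      · rw [Finset.sum_eq_zero fun l _ => by
          simp [hNdef, shiftMatrix, show ¬ (l : ℕ) = j + 1 by omega], if_neg (by omega)]
    rw [e1, e2]
    split_ifs <;> ring
  have hnil : IsNilpotent N := ⟨n, by
    rw [hNdef, shiftMatrix_pow]
    ext i j
    simp [show ¬ (i : ℕ) = j + n by omega]⟩
  obtain ⟨a, ha⟩ := hnil.isUnit_one_sub
  obtain ⟨b, hb⟩ := hnil.isUnit_one_add
  let M : GL (Fin n) F := b * a⁻¹
  have hcomm : Commute b a := Units.ext (by
    simp only [Units.val_mul, ha, hb]
    noncomm_ring)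
  have hiso : (M : Matrix (Fin n) (Fin n) F).transpose * J * (M : Matrix (Fin n) (Fin n) F) = J := by
    have h1 : (b : Matrix (Fin n) (Fin n) F).transpose * J * b = (a : Matrix (Fin n) (Fin n) F).transpose * J * a := by
      rw [ha, hb]
      have e : (1 + N).transpose * J * (1 + N) - (1 - N).transpose * J * (1 - N) = 2 • (N.transpose * J + J * N) := by
        rw [Matrix.transpose_add, Matrix.transpose_sub, Matrix.transpose_one]
        noncomm_ring
      rw [hskew, smul_zero, sub_eq_zero] at e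
      exact e
    show ((b : Matrix (Fin n) (Fin n) F) * ((a⁻¹ : GL (Fin n) F) : Matrix (Fin n) (Fin n) F)).transpose * J *
      ((b : Matrix (Fin n) (Fin n) F) * ((a⁻¹ : GL (Fin n) F) : Matrix (Fin n) (Fin n) F)) = J
    rw [Matrix.transpose_mul,
      show ∀ x y z w : Matrix (Fin n) (Fin n) F, x * y * J * (z * w) = x * (y * J * z) * w from
        fun x y z w => by noncomm_ring, h1,
      show ∀ x y z w : Matrix (Fin n) (Fin n) F, x * (y * J * z) * w = (x * y) * J * (z * w) from
        fun x y z w => by noncomm_ring, ← Matrix.transpose_mul, ← Units.val_mul, mul_inv_cancel, Units.val_one,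
      Matrix.transpose_one, one_mul, mul_one]
  let ρ : GL (Fin n) F →* ((Fin n → F) ≃ₗ[F] (Fin n → F)) :=
    { toFun := fun g =>
        LinearEquiv.ofLinear (Matrix.toLin' (g : Matrix (Fin n) (Fin n) F))
          (Matrix.toLin' ((g⁻¹ : GL (Fin n) F) : Matrix (Fin n) (Fin n) F))
          (by rw [← Matrix.toLin'_mul, ← Units.val_mul, mul_inv_cancel]; exact Matrix.toLin'_one)
          (by rw [← Matrix.toLin'_mul, ← Units.val_mul, inv_mul_cancel]; exact Matrix.toLin'_one)
      map_one' := LinearEquiv.ext fun x => by simp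
      map_mul' := fun g h => LinearEquiv.ext fun x => by simp [Matrix.mulVec_mulVec] }
  suffices h : ∃ g : Alt.isoGroup B, orderOf g.1 = p ^ Nat.clog p n by
    obtain ⟨g, hg⟩ := h
    exact hg ▸ hasIso_of hA hN (by simp [hn]) g
  refine ⟨⟨ρ M, fun x y => ?_⟩, ?_⟩
  · show Matrix.toBilin' J (Matrix.toLin' (M : Matrix (Fin n) (Fin n) F) x)
      (Matrix.toLin' (M : Matrix (Fin n) (Fin n) F) y) = _
    rw [← LinearMap.BilinForm.comp_apply, Matrix.toBilin'_comp, hiso]
  · show orderOf (ρ M) = _
    rw [orderOf_injective ρ (fun u w h => Units.ext (Matrix.ext_of_mulVec_single fun i => by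
      have := congrArg (fun f : (Fin n → F) ≃ₗ[F] (Fin n → F) => f (Pi.single i 1)) h
      simpa [ρ] using this)) M]
    haveI : CharP (Matrix (Fin n) (Fin n) F) p := inferInstance
    obtain ⟨e, he⟩ := Nat.exists_eq_succ_of_ne_zero (Nat.clog_pos hp (show 2 ≤ n by omega)).ne'
    have key : ∀ i, M ^ p ^ i = 1 ↔ N ^ p ^ i = 0 := fun i => by
      rw [(hcomm.inv_right).mul_pow, inv_pow, mul_inv_eq_one, Units.ext_iff, Units.val_pow_eq_pow_val,
        Units.val_pow_eq_pow_val, ha, hb, add_pow_char_pow_of_commute _ _ (Commute.one_left _),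
        sub_pow_char_pow_of_commute _ _ (Commute.one_left _), one_pow, sub_eq_add_neg, add_right_inj]
      refine ⟨fun h => ?_, fun h => by rw [h, neg_zero]⟩
      have : (2 : F) • N ^ p ^ i = 0 := by rw [two_smul]; nth_rewrite 1 [h]; rw [neg_add_cancel]
      exact (smul_eq_zero.1 this).resolve_left h2
    rw [he]
    refine orderOf_eq_prime_pow ?_ ?_
    · rw [key]
      intro h
      have hlt : p ^ e < n := by
        have := Nat.pow_pred_clog_lt_self hp (show 1 < n by omega)
        simpa [he] using this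
      have := congrFun (congrFun h ⟨p ^ e, hlt⟩) ⟨0, by omega⟩
      simp [hNdef, shiftMatrix_pow] at this
    · rw [key, hNdef, shiftMatrix_pow]
      ext i j
      have : n ≤ p ^ (e + 1) := by
        have := Nat.le_pow_clog hp n
        rwa [he] at this
      simp [show ¬ (i : ℕ) = j + p ^ (e + 1) by omega]

/-- An element of order two. -/
theorem hasIso_two (h2 : (2 : F) ≠ 0) {k : ℕ} (hk : 1 ≤ k) : HasIso F k 2 := by
  classical
  have hlift : ∀ {V : Type u} [AddCommGroup V] [Module F V] [Nontrivial V],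
      orderOf (LinearEquiv.neg F : V ≃ₗ[F] V) = 2 := by
    intro V _ _ _
    haveI : Fact (Nat.Prime 2) := ⟨Nat.prime_two⟩
    refine orderOf_eq_prime (LinearEquiv.ext fun x => by simp [pow_two]) fun h => ?_
    obtain ⟨x, hx⟩ := exists_ne (0 : V)
    have h' : -x = x := congrArg (fun f : V ≃ₗ[F] V => f x) h
    have : (2 : F) • x = 0 := by rw [two_smul]; nth_rewrite 1 [← h']; rw [neg_add_cancel]
    exact hx ((smul_eq_zero.1 this).resolve_left h2)
  haveI : Nontrivial (Fin k ⊕ Fin k → F) := nontrivial_symp hk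
  exact ⟨⟨LinearEquiv.neg F, fun x y => by simp⟩, hlift⟩

set_option maxHeartbeats 1000000 in
/-- An element of `PSp` from one of odd unipotent order and another. -/
theorem exists_psp_lcm (p : ℕ) [Fact p.Prime] [CharP F p] (h2 : (2 : F) ≠ 0) {a b N : ℕ} (ha : 1 ≤ a) (hb : 1 ≤ b)
    (h : HasIso F a N) : ∃ x : Cfsg.PSp (a + b) F, orderOf x = Nat.lcm N (p ^ Nat.clog p (2 * b)) := by
  obtain ⟨g, hg⟩ := h
  obtain ⟨u, hu⟩ := hasIso_unipotent (F := F) p h2 hb
  obtain ⟨x, hx⟩ := exists_psp_sum ha finrank_symp finrank_symp sympB_isAlt sympB_nondeg sympB_isAlt sympB_nondeg g u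
  haveI := nontrivial_symp (F := F) hb
  refine ⟨x, Nat.dvd_antisymm ?_ ?_⟩
  · rw [hx]
    refine ⟨1, one_mul 1, fun v => ?_, fun w => ?_⟩
    · rw [orderOf_dvd_iff_pow_eq_one.1 (hg ▸ Nat.dvd_lcm_left _ _), one_smul]; rfl
    · rw [orderOf_dvd_iff_pow_eq_one.1 (hu ▸ Nat.dvd_lcm_right _ _), one_smul]; rfl
  · obtain ⟨c, hc, hv, hw⟩ := (hx (orderOf x)).1 dvd_rfl
    have hc1 : c = 1 := by
      refine pow_prime_pow_odd p h2 hc (e := Nat.clog p (2 * b)) ?_
      obtain ⟨w₀, hw₀⟩ := exists_ne (0 : Fin b ⊕ Fin b → F)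
      have key : ∀ i : ℕ, ((u.1 ^ orderOf x) ^ i) w₀ = c ^ i • w₀ := fun i => by
        induction i with
        | zero => simp
        | succ i ih => rw [pow_succ', LinearEquiv.mul_apply, ih, map_smul, hw, smul_smul, ← pow_succ]
      have h1 := key (p ^ Nat.clog p (2 * b))
      rw [← pow_mul, mul_comm, pow_mul, ← hu, pow_orderOf_eq_one, one_pow] at h1
      refine smul_left_injective F hw₀ ?_
      simpa [hu] using h1.symm
    refine Nat.lcm_dvd ?_ ?_
    · rw [← hg, orderOf_dvd_iff_pow_eq_one]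
      exact LinearEquiv.ext fun v => by rw [hv, hc1, one_smul]; rfl
    · rw [← hu, orderOf_dvd_iff_pow_eq_one]
      exact LinearEquiv.ext fun w => by rw [hw, hc1, one_smul]; rfl

/-- An element of `PSp` of half the order of an even element. -/
theorem exists_psp_half {n h : ℕ} (hn : 1 ≤ n) (hi : HasIso F n (2 * h)) :
    ∃ x : Cfsg.PSp n F, h ∣ orderOf x := by
  obtain ⟨g, hg⟩ := hi
  obtain ⟨φ, -, hφ⟩ := exists_psp_of_iso (V := Fin n ⊕ Fin n → F) hn finrank_symp sympB_isAlt sympB_nondeg
  refine ⟨φ g, ?_⟩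
  have := orderOf_dvd_of_pow_eq_one (scalarPow_one_or_neg ((hφ g (orderOf (φ g))).1 dvd_rfl))
  rw [hg] at this
  exact Nat.dvd_of_mul_dvd_mul_left two_pos this

end Cfsg.Agent.Spectrum
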